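import Cfsg.Agent.TwoSolv.Parts
import Cfsg.Agent.Char.LinearTwist
import Cfsg.Agent.Char.Induction
import Cfsg.Agent.Char.ClassProducts
import Mathlib.GroupTheory.SpecificGroups.Cyclic
import Mathlib.RingTheory.RootsOfUnity.Complex

/-!
Let `L = K⟨c⟩` with `c` of odd prime order `p` prime to `|K|`, and `λ` a linear character of
`C_K(c)`. If every product of `c` with one of its conjugates is conjugate to some `c²x` with
`λ(x) = 1`, then `λ` extends to a linear character of `L` trivial at `c`: the function induced from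
the centraliser is, off `K`, a signed irreducible character, of degree one by the class equation.
-/

set_option autoImplicit false
set_option linter.unusedSectionVars false
set_option linter.style.haveILetI false

namespace CfsgLib.TwoSolv

open Subgroup Finset CfsgLib.Char
open scoped ComplexConjugate

universe u

/-- An integral tuple whose pairwise square distances sum to the least positive value is constant
except at one place. -/
theorem exists_spike {ι : Type*} [Fintype ι] (f : ι → ℤ) (hne : ∃ i j, f i ≠ f j) :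
    2 * ((Fintype.card ι : ℤ) - 1) ≤ ∑ i, ∑ j, (f i - f j) ^ 2 ∧
      (∑ i, ∑ j, (f i - f j) ^ 2 ≤ 2 * ((Fintype.card ι : ℤ) - 1) →
        ∃ (i₀ : ι) (v ε : ℤ), (ε = 1 ∨ ε = -1) ∧ f i₀ = v + ε ∧ ∀ i, i ≠ i₀ → f i = v) := by
  classical
  obtain ⟨a, b, hab⟩ := hne
  obtain ⟨m, -, hm⟩ := Finset.exists_min_image (univ : Finset ι) f ⟨a, mem_univ a⟩
  set A := univ.filter (fun i => f i = f m) with hA
  set B := univ.filter (fun i => f i ≠ f m) with hB
  have hk1 : 1 ≤ (A.card : ℤ) := by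
    exact_mod_cast Finset.card_pos.2 ⟨m, by simp [hA]⟩
  have hl1 : 1 ≤ (B.card : ℤ) := by
    refine Int.toNat_le.1 (Finset.card_pos.2 ?_)
    by_cases h : f a = f m
    · exact ⟨b, by simp only [hB, mem_filter, mem_univ, true_and]; exact fun h' => hab (h.trans h'.symm)⟩
    · exact ⟨a, by simp [hB, h]⟩
  have hkl : (A.card : ℤ) + B.card = Fintype.card ι := by
    rw [← Finset.card_univ, ← Finset.card_filter_add_card_filter_not (s := univ) (fun i => f i = f m)]
    push_cast
    rfl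
  have hsplit : ∀ g : ι → ℤ, ∑ i, g i = ∑ i ∈ A, g i + ∑ i ∈ B, g i := fun g =>
    (Finset.sum_filter_add_sum_filter_not univ _ g).symm
  have hd : ∀ j ∈ B, 1 ≤ (f m - f j) ^ 2 := fun j hj => by
    simp only [hB, mem_filter, mem_univ, true_and] at hj
    have := sq_pos_of_ne_zero (sub_ne_zero.2 (Ne.symm hj))
    omega
  -- the two mixed blocks
  have hlow : 2 * ((A.card : ℤ) * ∑ j ∈ B, (f m - f j) ^ 2) ≤ ∑ i, ∑ j, (f i - f j) ^ 2 := by
    have h1 : ∀ i ∈ A, ∑ j ∈ B, (f i - f j) ^ 2 = ∑ j ∈ B, (f m - f j) ^ 2 := fun i hi => by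
      simp only [hA, mem_filter, mem_univ, true_and] at hi
      rw [hi]
    have h2 : ∀ j ∈ B, ∑ i ∈ A, (f j - f i) ^ 2 = (A.card : ℤ) * (f m - f j) ^ 2 := fun j _ => by
      rw [Finset.sum_congr rfl (fun i hi => ?_), Finset.sum_const, nsmul_eq_mul]
      simp only [hA, mem_filter, mem_univ, true_and] at hi
      rw [hi]; ring
    have h3 : 0 ≤ ∑ i ∈ A, ∑ j ∈ A, (f i - f j) ^ 2 := by positivity
    have h4 : 0 ≤ ∑ i ∈ B, ∑ j ∈ B, (f i - f j) ^ 2 := by positivity
    have h5 : ∑ i, ∑ j, (f i - f j) ^ 2 =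
        (∑ i ∈ A, ∑ j ∈ A, (f i - f j) ^ 2 + ∑ i ∈ A, ∑ j ∈ B, (f i - f j) ^ 2) +
        (∑ i ∈ B, ∑ j ∈ A, (f i - f j) ^ 2 + ∑ i ∈ B, ∑ j ∈ B, (f i - f j) ^ 2) := by
      rw [hsplit, ← Finset.sum_add_distrib, ← Finset.sum_add_distrib]
      congr 1 <;> exact Finset.sum_congr rfl fun i _ => hsplit _
    rw [h5, Finset.sum_congr rfl h1, Finset.sum_congr rfl h2, Finset.sum_const, nsmul_eq_mul,
      ← Finset.mul_sum]
    linarith
  have hB1 : (B.card : ℤ) ≤ ∑ j ∈ B, (f m - f j) ^ 2 := by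
    simpa using Finset.sum_le_sum hd
  have hkl1 : (A.card : ℤ) + B.card - 1 ≤ A.card * B.card := by nlinarith
  have hAB : (A.card : ℤ) * B.card ≤ A.card * ∑ j ∈ B, (f m - f j) ^ 2 :=
    mul_le_mul_of_nonneg_left hB1 (by omega)
  refine ⟨by linarith, fun hle => ?_⟩
  have e1 : (∑ j ∈ B, (f m - f j) ^ 2) = B.card := by
    refine le_antisymm ?_ hB1
    by_contra hlt
    push Not at hlt
    have : (A.card : ℤ) * B.card < A.card * ∑ j ∈ B, (f m - f j) ^ 2 :=
      mul_lt_mul_of_pos_left hlt (by omega)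
    linarith
  have hval : ∀ j ∈ B, f j = f m + 1 := fun j hj => by
    have h6 : ∀ i ∈ B, (f m - f i) ^ 2 = 1 := by
      intro i hi
      by_contra hne
      have : (1 : ℤ) < (f m - f i) ^ 2 := lt_of_le_of_ne (hd i hi) (Ne.symm hne)
      have := Finset.sum_lt_sum hd ⟨i, hi, this⟩
      simp [e1] at this
    have h7 := h6 j hj
    have h8 := hm j (mem_univ j)
    rcases sq_eq_one_iff.1 h7 with h | h <;> omega
  have hcases : (A.card : ℤ) = 1 ∨ (B.card : ℤ) = 1 := by
    have : ((A.card : ℤ) - 1) * (B.card - 1) = 0 := le_antisymm (by nlinarith) (by nlinarith)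
    rcases mul_eq_zero.1 this with h | h <;> [left; right] <;> omega
  rcases hcases with h | h
  · obtain ⟨i₀, hi₀⟩ := Finset.card_eq_one.1 (by exact_mod_cast h : A.card = 1)
    refine ⟨i₀, f m + 1, -1, Or.inr rfl, ?_, fun i hi => hval i ?_⟩
    · have : i₀ ∈ A := by rw [hi₀]; exact mem_singleton_self _
      simp only [hA, mem_filter, mem_univ, true_and] at this
      omega
    · simp only [hB, mem_filter, mem_univ, true_and]
      intro h'
      exact hi (mem_singleton.1 (hi₀ ▸ (by simp [hA, h'] : i ∈ A)))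
  · obtain ⟨i₀, hi₀⟩ := Finset.card_eq_one.1 (by exact_mod_cast h : B.card = 1)
    refine ⟨i₀, f m, 1, Or.inl rfl, hval i₀ (by rw [hi₀]; exact mem_singleton_self _), fun i hi => ?_⟩
    by_contra h'
    exact hi (mem_singleton.1 (hi₀ ▸ (by simp [hB, h'] : i ∈ B)))

variable {L : Type u} [Group L]

theorem classInner_mul_hom_left [Fintype L] (φ χ : L → ℂ) (lam : L →* ℂˣ) :
    Cfsg.classInner (φ * fun g => (lam g : ℂ)) χ =
      Cfsg.classInner φ (χ * fun g => (lam⁻¹ g : ℂ)) := by
  rw [classInner_def, classInner_def]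
  congr 1
  refine Finset.sum_congr rfl fun g _ => ?_
  simp only [Pi.mul_apply, map_mul, MonoidHom.inv_apply]
  rw [← map_inv, conj_eq_inv_hom lam g⁻¹, inv_inv]
  ring

/-- The sum of an irreducible character over products with conjugates. -/
theorem IsIrrCharacter.sum_mul_conj [Fintype L] {χ : L → ℂ} (hχ : Cfsg.IsIrrCharacter L χ)
    (a : L) : ∑ g, χ (g * a * g⁻¹ * a) = (Nat.card L : ℂ) * χ a * χ a / χ 1 := by
  obtain ⟨n, ρ, hρ, rfl⟩ := id hχ
  haveI := hρ
  let A : Module.End ℂ (Fin n → ℂ) := ∑ b, ρ (b * a * b⁻¹)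
  have hA : A = (LinearMap.trace ℂ _ A / (Module.finrank ℂ (Fin n → ℂ) : ℂ)) • 1 := by
    refine eq_smul_one_of_commute ρ A fun g => ?_
    simp only [A, Finset.mul_sum, Finset.sum_mul, ← map_mul]
    refine Fintype.sum_equiv (Equiv.mulLeft g) _ _ fun b => ?_
    congr 1
    simp only [Equiv.coe_mulLeft]; group
  have htr : LinearMap.trace ℂ _ A = (Nat.card L : ℂ) * ρ.character a := by
    simp only [A, map_sum]
    change ∑ b, ρ.character (b * a * b⁻¹) = _
    rw [Finset.sum_congr rfl fun b _ => ρ.char_conj a b, Finset.sum_const, Finset.card_univ,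
      nsmul_eq_mul, Nat.card_eq_fintype_card]
  have h := congrArg (fun B : Module.End ℂ (Fin n → ℂ) => LinearMap.trace ℂ _ (B * ρ a)) hA
  simp only [smul_mul_assoc, one_mul, map_smul, smul_eq_mul, htr] at h
  simp only [A, Finset.sum_mul, map_sum, ← map_mul] at h
  rw [ρ.char_one]
  simp only [Representation.character] at h ⊢
  rw [h]; ring

variable [Finite L] {p : ℕ} [hp : Fact p.Prime]

/-- A linear character trivial on `K` with value a primitive `p`th root of unity at `c`. -/
theorem exists_hom_prime (K : Subgroup L) [K.Normal] (hK : (Nat.card K).Coprime p) {c : L}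
    (hc : orderOf c = p) (hgen : ∀ g : L, ∃ k ∈ K, ∃ i : ℕ, g = k * c ^ i) :
    ∃ ν : L →* ℂˣ, (∀ k ∈ K, ν k = 1) ∧ ∀ i : ℕ, ν (c ^ i) = 1 ↔ p ∣ i := by
  set π := QuotientGroup.mk' K
  have ho : orderOf (π c) = p := by
    refine orderOf_eq_prime (by rw [← map_pow, ← hc, pow_orderOf_eq_one, map_one]) fun h => ?_
    refine hp.out.coprime_iff_not_dvd.1 hK.symm ?_
    rw [← hc]
    exact K.orderOf_dvd_natCard ((QuotientGroup.eq_one_iff c).1 h)
  have hall : ∀ x, x ∈ zpowers (π c) := fun x => by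
    obtain ⟨g, rfl⟩ := QuotientGroup.mk'_surjective K x
    obtain ⟨k, hk, i, rfl⟩ := hgen g
    rw [map_mul, show π k = 1 from (QuotientGroup.eq_one_iff k).2 hk, one_mul, map_pow]
    exact pow_mem (mem_zpowers _) i
  have hz := Complex.isPrimitiveRoot_exp p hp.out.ne_zero
  set ζ : ℂˣ := (hz.isUnit hp.out.ne_zero).unit
  have hζ : orderOf ζ = p := by
    rw [← orderOf_units]
    exact hz.eq_orderOf.symm
  refine ⟨(monoidHomOfForallMemZpowers hall (show orderOf ζ ∣ orderOf (π c) by rw [hζ, ho])).comp π,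
    fun k hk => ?_, fun i => ?_⟩
  · rw [MonoidHom.comp_apply, show π k = 1 from (QuotientGroup.eq_one_iff k).2 hk, map_one]
  · rw [MonoidHom.comp_apply, map_pow, map_pow, monoidHomOfForallMemZpowers_apply_gen,
      ← orderOf_dvd_iff_pow_eq_one, hζ]

/-- The extension. -/
theorem exists_extension (hp2 : p ≠ 2) (K : Subgroup L) [K.Normal] (hK : (Nat.card K).Coprime p)
    (c : L) (hc : orderOf c = p) (hgen : ∀ g : L, ∃ k ∈ K, ∃ i : ℕ, g = k * c ^ i)
    (lam : ↥(K ⊓ centralizer ({c} : Set L)) →* ℂˣ)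
    (hprod : ∀ g : L, ∃ h : L, ∃ x : ↥(K ⊓ centralizer ({c} : Set L)),
      g * c * g⁻¹ * c = h * (c ^ 2 * (x : L)) * h⁻¹ ∧ lam x = 1) :
    ∃ χ : L →* ℂˣ, χ c = 1 ∧ ∀ x : ↥(K ⊓ centralizer ({c} : Set L)), χ (x : L) = lam x := by
  classical
  haveI := Fintype.ofFinite L
  haveI := Fintype.ofFinite (centralizer ({c} : Set L))
  have hcP : IsPEl p c := ⟨1, by rw [pow_one, ← hc, pow_orderOf_eq_one]⟩
  have hcM : c ∈ (centralizer ({c} : Set L)) := mem_centralizer_singleton_iff.2 rfl
  have hdec : ∀ m : (centralizer ({c} : Set L)), ∃ i : ℕ, ∃ k ∈ K ⊓ (centralizer ({c} : Set L)), (m : L) = k * c ^ i ∧ pq p (m : L) = k ∧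
      pp p (m : L) = c ^ i := fun m => by
    obtain ⟨k, hk, i, hm⟩ := hgen (m : L)
    have hkM : k ∈ (centralizer ({c} : Set L)) := by
      rw [show k = (m : L) * (c ^ i)⁻¹ by rw [hm, mul_inv_cancel_right]]
      exact mul_mem m.2 (inv_mem (pow_mem hcM i))
    have hcomm : Commute (c ^ i) k :=
      Commute.pow_left (mem_centralizer_singleton_iff.1 hkM : Commute k c).symm i
    have hk' := not_dvd_orderOf_of_mem hK hk
    refine ⟨i, k, ⟨hk, hkM⟩, hm, ?_, ?_⟩ <;> rw [hm, ← hcomm.eq]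
    · exact pq_mul hcomm (hcP.pow i) hk'
    · exact pp_mul hcomm (hcP.pow i) hk'
  have hpqmem : ∀ m : (centralizer ({c} : Set L)), pq p (m : L) ∈ K ⊓ (centralizer ({c} : Set L)) := fun m => by
    obtain ⟨i, k, hk, -, h, -⟩ := hdec m
    rwa [h]
  let lt : (centralizer ({c} : Set L)) →* ℂˣ := MonoidHom.mk' (fun m => lam ⟨pq p (m : L), hpqmem m⟩) fun a b => by
    rw [← map_mul]
    congr 1
    apply Subtype.ext
    obtain ⟨i, k, hk, ha, hqa, -⟩ := hdec a
    obtain ⟨j, k', hk', hb, hqb, -⟩ := hdec b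
    have hcomm : Commute (c ^ i) k' :=
      Commute.pow_left (mem_centralizer_singleton_iff.1 hk'.2 : Commute k' c).symm i
    have hab : ((a * b : (centralizer ({c} : Set L))) : L) = c ^ (i + j) * (k * k') := by
      have hkc : Commute (c ^ (i + j)) (k * k') := Commute.pow_left
        ((mem_centralizer_singleton_iff.1 (mul_mem hk.2 hk'.2) : Commute (k * k') c).symm) _
      rw [hkc.eq, Subgroup.coe_mul, ha, hb, pow_add]
      simp only [mul_assoc]
      rw [← mul_assoc (c ^ i) k', hcomm.eq, mul_assoc]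
    show pq p ((a * b : (centralizer ({c} : Set L))) : L) = pq p (a : L) * pq p (b : L)
    rw [hqa, hqb, hab]
    exact pq_mul (Commute.pow_left
      ((mem_centralizer_singleton_iff.1 (mul_mem hk.2 hk'.2) : Commute (k * k') c).symm) _)
      (hcP.pow _) (not_dvd_orderOf_of_mem hK (mul_mem hk.1 hk'.1))
  have hlt : ∀ (i : ℕ) (x : ↥(K ⊓ (centralizer ({c} : Set L)))) (h : c ^ i * (x : L) ∈ (centralizer ({c} : Set L))),
      lt ⟨c ^ i * x, h⟩ = lam x := fun i x h => by
    show lam ⟨pq p (c ^ i * (x : L)), _⟩ = lam x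
    congr 1
    exact Subtype.ext (pq_mul (Commute.pow_left
      ((mem_centralizer_singleton_iff.1 x.2.2 : Commute (x : L) c).symm) i) (hcP.pow i)
      (not_dvd_orderOf_of_mem hK x.2.1))
  obtain ⟨ν, hνK, hν⟩ := exists_hom_prime K hK hc hgen
  set Φ := Cfsg.indFun (centralizer ({c} : Set L)) (fun m => (lt m : ℂ)) with hΦdef
  have hΦc : Cfsg.IsCharacter L Φ := IsCharacter.indFun
    (IsIrrCharacter.isCharacter (isIrrCharacter_ofHom lt))
  have hΦcl : Cfsg.IsClassFunction L Φ := isClassFunction_indFun (centralizer ({c} : Set L)) (fun m => (lt m : ℂ))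
  have hνp : ∀ g, ν g ^ p = 1 := fun g => by
    obtain ⟨k, hk, i, rfl⟩ := hgen g
    rw [map_mul, hνK k hk, one_mul, ← map_pow, ← pow_mul, mul_comm i, pow_mul, ← hc,
      pow_orderOf_eq_one, one_pow, map_one]
  -- the induced function on the centraliser, off `K`
  have hΦM : ∀ (i : ℕ), ¬ p ∣ i → ∀ m : (centralizer ({c} : Set L)), pp p (m : L) = c ^ i → Φ m = (lt m : ℂ) := by
    intro i hi m hm
    have hci : ∀ j : ℕ, c ^ j = c ^ i → ¬ p ∣ j := fun j hj hd => hi (by
      obtain ⟨d, rfl⟩ := hd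
      rw [pow_mul, ← hc, pow_orderOf_eq_one, one_pow] at hj
      rw [← hc]
      exact orderOf_dvd_of_pow_eq_one hj.symm)
    have hmem : ∀ y : L, y⁻¹ * m * y ∈ (centralizer ({c} : Set L)) → y ∈ (centralizer ({c} : Set L)) := fun y hy => by
      obtain ⟨j, k, hk, -, -, hj⟩ := hdec ⟨_, hy⟩
      have h1 : y⁻¹ * c ^ i * y = c ^ j := by
        rw [← hj, ← hm]
        have := pp_conj (p := p) y⁻¹ (m : L)
        rw [inv_inv] at this
        exact this.symm
      have hi' : c ^ j = c ^ i := by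
        have h2 := congrArg ν h1
        rw [map_mul, map_mul, map_inv, mul_comm (ν y)⁻¹, inv_mul_cancel_right] at h2
        obtain ⟨d, hd⟩ : p ∣ (j + (p - 1) * i) := by
          refine (hν _).1 ?_
          rw [pow_add, map_mul, ← h2, mul_comm (p - 1), pow_mul, map_pow ν (c ^ i), ← pow_succ',
            Nat.sub_add_cancel hp.out.one_le, hνp]
        have h3 : c ^ j * (c ^ i) ^ (p - 1) = 1 := by
          rw [← pow_mul, ← pow_add, mul_comm i, hd, pow_mul, ← hc, pow_orderOf_eq_one, one_pow]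
        have h4 : (c ^ i) ^ (p - 1) * c ^ i = 1 := by
          rw [← pow_succ, Nat.sub_add_cancel hp.out.one_le, ← pow_mul, mul_comm, pow_mul, ← hc,
            pow_orderOf_eq_one, one_pow]
        calc c ^ j = c ^ j * ((c ^ i) ^ (p - 1) * c ^ i) := by rw [h4, mul_one]
          _ = c ^ i := by rw [← mul_assoc, h3, one_mul]
      rw [hi'] at h1
      have h5 : Commute y (c ^ i) := by
        show y * c ^ i = c ^ i * y
        have := congrArg (fun z => y * z) h1
        simpa [mul_assoc] using this.symm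
      obtain ⟨l, hl⟩ := exists_pow_eq_self_of_coprime (x := c) (n := i)
        (hc ▸ (hp.out.coprime_iff_not_dvd.2 hi).symm)
      exact mem_centralizer_singleton_iff.2 (hl ▸ h5.pow_right l).eq
    rw [hΦdef, indFun_def]
    have hsum : ∀ y : L, Cfsg.extendByZero (centralizer ({c} : Set L)) (fun m => (lt m : ℂ)) (y⁻¹ * m * y) =
        if y ∈ (centralizer ({c} : Set L)) then (lt m : ℂ) else 0 := fun y => by
      split_ifs with hy
      · rw [extendByZero_of_mem _ (mul_mem (mul_mem (inv_mem hy) m.2) hy)]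
        show (lt (⟨y, hy⟩⁻¹ * m * ⟨y, hy⟩) : ℂ) = _
        rw [map_mul, map_mul, map_inv, inv_mul_cancel_comm]
      · exact extendByZero_of_not_mem _ fun h => hy (hmem y h)
    rw [Finset.sum_congr rfl fun y _ => hsum y, ← Finset.sum_filter, Finset.sum_const, nsmul_eq_mul,
      show ((univ.filter (fun y => y ∈ (centralizer ({c} : Set L)))).card) = Nat.card (centralizer ({c} : Set L)) by
        rw [Nat.card_eq_fintype_card, Fintype.card_subtype], ← mul_assoc,
      inv_mul_cancel₀ (by exact_mod_cast Nat.card_pos.ne'), one_mul]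
  have hMK : ∀ m : (centralizer ({c} : Set L)), ν m ≠ 1 → ∃ i, ¬ p ∣ i ∧ pp p (m : L) = c ^ i := fun m hm => by
    obtain ⟨i, k, hk, hm', -, hi⟩ := hdec m
    refine ⟨i, fun hd => hm ?_, hi⟩
    rw [hm', map_mul, hνK k hk.1, one_mul]
    exact (hν i).2 hd
  -- twists
  have hνadd : ∀ a b : ZMod p, ν ^ (a + b).val = ν ^ a.val * ν ^ b.val := fun a b => by
    ext g
    simp only [MonoidHom.mul_apply, MonoidHom.pow_apply, ← pow_add]
    congr 1
    refine pow_eq_pow_iff_modEq.2 (Nat.ModEq.of_dvd (orderOf_dvd_of_pow_eq_one (hνp g)) ?_)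
    rw [ZMod.val_add]
    exact Nat.mod_modEq _ _
  let X := {χ // χ ∈ irrFinset L}
  let tw : ZMod p → X → X := fun a χ => ⟨χ.1 * fun g => (((ν ^ a.val)⁻¹) g : ℂ),
    mem_irrFinset.2 (IsIrrCharacter.mul_hom (mem_irrFinset.1 χ.2) _)⟩
  have htw_add : ∀ a b χ, tw a (tw b χ) = tw (a + b) χ := fun a b χ => by
    refine Subtype.ext (funext fun g => ?_)
    simp only [tw, hνadd, Pi.mul_apply, MonoidHom.inv_apply, MonoidHom.mul_apply, mul_inv_rev,
      Units.val_mul]
    ring
  have htw0 : ∀ χ, tw 0 χ = χ := fun χ => by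
    refine Subtype.ext (funext fun g => ?_)
    simp [tw]
  choose m hm using fun χ : X =>
    IsCharacter.exists_classInner_eq_natCast hΦc (mem_irrFinset.1 χ.2)
  have hnorm : ∀ a : ZMod p, a ≠ 0 → ∑ χ : X, ((m χ : ℤ) - m (tw a χ)) ^ 2 = 2 := by
    intro a ha
    set μ := ν ^ a.val
    have hμc : μ c ≠ 1 := fun h => by
      rw [MonoidHom.pow_apply, ← map_pow, hν] at h
      exact ha ((ZMod.val_eq_zero a).1 (Nat.eq_zero_of_dvd_of_lt h (ZMod.val_lt a)))
    set θ : (centralizer ({c} : Set L)) → ℂ := (fun x : (centralizer ({c} : Set L)) => (lt x : ℂ)) - (fun x : (centralizer ({c} : Set L)) => (lt x : ℂ)) * fun x : (centralizer ({c} : Set L)) => (μ x : ℂ)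
    set D := Φ - Φ * fun g => (μ g : ℂ) with hD
    have hμcl := IsIrrCharacter.isClassFunction (isIrrCharacter_ofHom μ)
    have hDind : D = Cfsg.indFun (centralizer ({c} : Set L)) θ := by
      rw [hD, hΦdef, ← indFun_mul_restrict _ hμcl, ← indFun_sub]
    have hDcl : Cfsg.IsClassFunction L D := hDind ▸ isClassFunction_indFun (centralizer ({c} : Set L)) θ
    have hres : (fun x : (centralizer ({c} : Set L)) => D x) = θ := funext fun x => by
      by_cases hx : μ x = 1
      · simp [D, θ, hx]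
      · obtain ⟨i, hi, hpp⟩ := hMK x fun h => hx (by rw [MonoidHom.pow_apply, h, one_pow])
        simp [D, θ, hΦM i hi x hpp]
    have h2 : Cfsg.classInner D D = 2 := by
      conv_lhs => rw [hDind]
      rw [classInner_indFun θ (hDind ▸ hDcl), ← hDind, hres]
      set η := μ.comp (centralizer ({c} : Set L)).subtype
      have hη : Cfsg.classInner (fun x : (centralizer ({c} : Set L)) => (η x : ℂ)) (fun _ => (1 : ℂ)) = 0 := by
        have h1 : Cfsg.IsIrrCharacter (centralizer ({c} : Set L)) (fun _ : (centralizer ({c} : Set L)) => (1 : ℂ)) := by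
          simpa using isIrrCharacter_ofHom (1 : (centralizer ({c} : Set L)) →* ℂˣ)
        refine IsIrrCharacter.classInner_of_ne (isIrrCharacter_ofHom η) h1 fun h => hμc ?_
        exact Units.ext (congrFun h ⟨c, hcM⟩)
      have hη' : Cfsg.classInner (fun _ : (centralizer ({c} : Set L)) => (1 : ℂ)) (fun x : (centralizer ({c} : Set L)) => (η x : ℂ)) = 0 := by
        rw [← classInner_conj, hη, map_zero]
      have hθ : Cfsg.classInner θ θ = Cfsg.classInner
          ((fun _ : (centralizer ({c} : Set L)) => (1 : ℂ)) - fun x : (centralizer ({c} : Set L)) => (η x : ℂ))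
          ((fun _ : (centralizer ({c} : Set L)) => (1 : ℂ)) - fun x : (centralizer ({c} : Set L)) => (η x : ℂ)) := by
        rw [classInner_def, classInner_def]
        congr 1
        refine Finset.sum_congr rfl fun x _ => ?_
        have h : (lt x : ℂ) * conj (lt x : ℂ) = 1 := by
          rw [conj_eq_inv_hom, ← Units.val_mul, ← map_mul, mul_inv_cancel, map_one, Units.val_one]
        simp only [θ, η, Pi.sub_apply, Pi.mul_apply, map_sub, map_mul, MonoidHom.comp_apply,
          coe_subtype, map_one]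
        linear_combination (1 - (μ (x : L) : ℂ)) * (1 - conj (μ (x : L) : ℂ)) * h
      rw [hθ, classInner_sub_left, classInner_sub_right, classInner_sub_right, hη, hη',
        IsIrrCharacter.classInner_self (isIrrCharacter_ofHom η)]
      have : Cfsg.classInner (fun _ : (centralizer ({c} : Set L)) => (1 : ℂ)) (fun _ : (centralizer ({c} : Set L)) => (1 : ℂ)) = 1 := by
        simp [classInner_def, Finset.card_univ, ← Nat.card_eq_fintype_card]
      rw [this]
      norm_num
    have hcoef : ∀ χ : X, Cfsg.classInner D χ.1 = ((m χ : ℤ) - m (tw a χ) : ℤ) := fun χ => by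
      rw [hD, classInner_sub_left, classInner_mul_hom_left, hm χ,
        show Cfsg.classInner Φ (χ.1 * fun g => (μ⁻¹ g : ℂ)) = (m (tw a χ) : ℂ) from hm (tw a χ)]
      push_cast
      rfl
    rw [classInner_eq_sum_irr hDcl, ← Finset.sum_coe_sort] at h2
    simp only [hcoef, map_intCast, ← Int.cast_mul, ← sq] at h2
    exact_mod_cast h2
  -- a moved constituent
  obtain ⟨χ₁, hχ₁⟩ : ∃ χ : X, m χ ≠ m (tw 1 χ) := by
    by_contra hall
    push Not at hall
    have := hnorm 1 one_ne_zero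
    simp [← hall] at this
  let o : ZMod p → X := fun a => tw a χ₁
  have hoinj : Function.Injective o := by
    intro a b hab
    by_contra hne
    refine hχ₁ (congrArg m ?_)
    set d := a - b
    have hd : d ≠ 0 := sub_ne_zero.2 hne
    have hfix : tw d χ₁ = χ₁ := by
      have := congrArg (tw (-b)) hab
      simp only [o, htw_add] at this
      rw [neg_add_cancel, htw0, show -b + a = d by simp [d, sub_eq_neg_add]] at this
      exact this
    have hmul : ∀ n : ℕ, tw ((n : ZMod p) * d) χ₁ = χ₁ := fun n => by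
      induction n with
      | zero => rw [Nat.cast_zero, zero_mul, htw0]
      | succ n ih => rw [Nat.cast_succ, add_mul, one_mul, ← htw_add, hfix, ih]
    have := hmul (d⁻¹).val
    rw [ZMod.natCast_zmod_val, inv_mul_cancel₀ hd] at this
    exact this.symm
  set f : ZMod p → ℤ := fun a => m (o a) with hf
  have htot : ∑ χ : X, ∑ a : ZMod p, ((m χ : ℤ) - m (tw a χ)) ^ 2 =
      2 * ((Fintype.card (ZMod p) : ℤ) - 1) := by
    rw [Finset.sum_comm, ← Finset.sum_erase_add _ _ (mem_univ (0 : ZMod p))]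
    simp only [htw0, sub_self, zero_pow (two_ne_zero), Finset.sum_const_zero, add_zero]
    rw [Finset.sum_congr rfl fun a ha => hnorm a (Finset.ne_of_mem_erase ha), Finset.sum_const,
      Finset.card_erase_of_mem (mem_univ _), Finset.card_univ, nsmul_eq_mul, mul_comm,
      Nat.cast_sub Fintype.card_pos]
    norm_num
  set O := univ.image o
  have horb : ∑ χ ∈ O, ∑ a : ZMod p, ((m χ : ℤ) - m (tw a χ)) ^ 2 =
      ∑ i, ∑ j, (f i - f j) ^ 2 := by
    rw [Finset.sum_image fun _ _ _ _ h => hoinj h]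
    refine Finset.sum_congr rfl fun i _ => ?_
    exact Fintype.sum_equiv (Equiv.addRight i) _ _ fun a => by
      simp only [hf, o, htw_add, Equiv.coe_addRight]
  have hsplit : ∑ χ ∈ O, ∑ a : ZMod p, ((m χ : ℤ) - m (tw a χ)) ^ 2 +
      ∑ χ ∈ Oᶜ, ∑ a : ZMod p, ((m χ : ℤ) - m (tw a χ)) ^ 2 =
      2 * ((Fintype.card (ZMod p) : ℤ) - 1) := by
    rw [Finset.sum_add_sum_compl, htot]
  obtain ⟨hlow, hspike⟩ := exists_spike f ⟨0, 1, by
    simp only [hf, o, htw0]; exact_mod_cast hχ₁⟩
  have hpos : 0 ≤ ∑ χ ∈ Oᶜ, ∑ a : ZMod p, ((m χ : ℤ) - m (tw a χ)) ^ 2 := by positivity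
  obtain ⟨i₀, v, ε, hε, hv0, hv⟩ := hspike (by rw [← horb]; linarith)
  have hout : ∀ χ ∈ Oᶜ, (m (tw 1 χ) : ℤ) = m χ := fun χ hχ => by
    have h1 : ∑ χ ∈ Oᶜ, ∑ a : ZMod p, ((m χ : ℤ) - m (tw a χ)) ^ 2 = 0 := by
      linarith [horb]
    have h2 := (Finset.sum_eq_zero_iff_of_nonneg fun x _ => by positivity).1 h1 χ hχ
    have h3 := (Finset.sum_eq_zero_iff_of_nonneg fun a _ => sq_nonneg _).1 h2 1 (mem_univ _)
    have := sq_eq_zero_iff.1 h3
    omega
  set χ₀ := o i₀
  let g : X → ℂ := fun χ => (m χ : ℂ) - if χ = χ₀ then (ε : ℂ) else 0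
  have hg : ∀ χ, g (tw 1 χ) = g χ := by
    have hv' : ∀ i, g (o i) = (v : ℂ) := fun i => by
      simp only [g, χ₀, hoinj.eq_iff]
      split_ifs with h
      · have : ((m (o i) : ℤ) : ℂ) = ((v + ε : ℤ) : ℂ) := by rw [h]; exact_mod_cast hv0
        push_cast at this
        rw [this]; ring
      · have : ((m (o i) : ℤ) : ℂ) = ((v : ℤ) : ℂ) := by exact_mod_cast hv i h
        push_cast at this
        rw [this, sub_zero]
    intro χ
    by_cases hχ : χ ∈ O
    · obtain ⟨i, -, rfl⟩ := Finset.mem_image.1 hχ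
      show g (tw 1 (tw i χ₁)) = g (o i)
      rw [htw_add]
      exact (hv' _).trans (hv' i).symm
    · have h1 : tw 1 χ ∉ O := fun h => hχ (by
        obtain ⟨i, -, hi⟩ := Finset.mem_image.1 h
        refine Finset.mem_image.2 ⟨-1 + i, mem_univ _, ?_⟩
        show tw (-1 + i) χ₁ = χ
        rw [← htw_add, show tw i χ₁ = tw 1 χ from hi, htw_add, neg_add_cancel, htw0])
      have hne : ∀ x, x ∉ O → x ≠ χ₀ := fun x hx h => hx (h ▸ Finset.mem_image_of_mem _ (mem_univ _))
      simp only [g, if_neg (hne χ hχ), if_neg (hne _ h1), sub_zero]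
      have := hout χ (Finset.mem_compl.2 hχ)
      exact_mod_cast this
  have hval : ∀ x : L, ν x ≠ 1 → Φ x = (ε : ℂ) * χ₀.1 x := by
    intro x hx
    have hexp : Φ x = ∑ χ : X, g χ * χ.1 x + (ε : ℂ) * χ₀.1 x := by
      conv_lhs => rw [eq_sum_irr hΦcl]
      rw [Finset.sum_apply, ← Finset.sum_coe_sort (irrFinset L)]
      have hδ : ∑ χ : X, (if χ = χ₀ then (ε : ℂ) else 0) * χ.1 x = (ε : ℂ) * χ₀.1 x := by
        rw [Finset.sum_eq_single χ₀ (fun b _ hb => by rw [if_neg hb, zero_mul])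
          (fun h => absurd (mem_univ χ₀) h), if_pos rfl]
      simp only [Pi.smul_apply, smul_eq_mul, hm, g, sub_mul, Finset.sum_sub_distrib]
      rw [hδ, sub_add_cancel]
    set S := ∑ χ : X, g χ * χ.1 x
    have hS : S = (((ν ^ (1 : ZMod p).val)⁻¹) x : ℂ) * S := by
      calc S = ∑ χ : X, g (tw 1 χ) * (tw 1 χ).1 x := by
            let e : X ≃ X := ⟨tw 1, tw (-1), fun χ => by rw [htw_add, neg_add_cancel, htw0],
              fun χ => by rw [htw_add, add_neg_cancel, htw0]⟩
            exact (e.sum_comp fun χ => g χ * χ.1 x).symm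
        _ = _ := by
            rw [Finset.mul_sum]
            refine Finset.sum_congr rfl fun χ _ => ?_
            rw [hg]
            simp only [tw, Pi.mul_apply]
            ring
    have hne : ((((ν ^ (1 : ZMod p).val)⁻¹) x : ℂˣ) : ℂ) ≠ 1 := by
      rw [ZMod.val_one p, MonoidHom.inv_apply, MonoidHom.pow_apply]
      intro h
      rw [Units.val_eq_one, inv_eq_one, pow_one] at h
      exact hx h
    have : S = 0 := by
      by_contra hS0
      exact hne (mul_right_cancel₀ hS0 (hS.symm.trans (one_mul S).symm))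
    rw [hexp, this, zero_add]
  -- values and degree
  have hcx : ∀ (i : ℕ), ¬ p ∣ i → ∀ x : ↥(K ⊓ (centralizer ({c} : Set L))),
      (ε : ℂ) * χ₀.1 (c ^ i * x) = (lam x : ℂ) := fun i hi x => by
    have hmem : c ^ i * (x : L) ∈ (centralizer ({c} : Set L)) := mul_mem (pow_mem hcM i) x.2.2
    have hνx : ν (c ^ i * x) ≠ 1 := by
      rw [map_mul, hνK _ x.2.1, mul_one, ne_eq, hν]
      exact hi
    have hpp : pp p (c ^ i * (x : L)) = c ^ i := pp_mul (Commute.pow_left
      ((mem_centralizer_singleton_iff.1 x.2.2 : Commute (x : L) c).symm) i) (hcP.pow i)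
      (not_dvd_orderOf_of_mem hK x.2.1)
    rw [← hval _ hνx]
    exact (hΦM i hi ⟨_, hmem⟩ hpp).trans (congrArg Units.val (hlt i x hmem))
  have h1 : ¬ p ∣ 1 := hp.out.not_dvd_one
  have h2 : ¬ p ∣ 2 := fun h => hp2 ((Nat.prime_dvd_prime_iff_eq hp.out Nat.prime_two).1 h)
  have hε2 : (ε : ℂ) * ε = 1 := by rcases hε with rfl | rfl <;> norm_num
  have hχirr : Cfsg.IsIrrCharacter L χ₀.1 := mem_irrFinset.1 χ₀.2
  have hcl0 := IsIrrCharacter.isClassFunction hχirr
  have hχc : χ₀.1 c = (ε : ℂ) := by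
    have := hcx 1 h1 1
    rw [OneMemClass.coe_one, mul_one, pow_one, map_one, Units.val_one] at this
    calc χ₀.1 c = (ε : ℂ) * ε * χ₀.1 c := by rw [hε2, one_mul]
      _ = ε := by rw [mul_assoc, this, mul_one]
  have hsum : ∀ g : L, χ₀.1 (g * c * g⁻¹ * c) = (ε : ℂ) := fun g => by
    obtain ⟨h, x, hx, hlx⟩ := hprod g
    rw [hx, hcl0]
    have := hcx 2 h2 x
    rw [hlx, Units.val_one] at this
    calc χ₀.1 (c ^ 2 * x) = (ε : ℂ) * ε * χ₀.1 (c ^ 2 * x) := by rw [hε2, one_mul]
      _ = ε := by rw [mul_assoc, this, mul_one]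
  obtain ⟨n, -, hn⟩ := IsIrrCharacter.exists_degree hχirr
  have hid := IsIrrCharacter.sum_mul_conj hχirr c
  rw [Finset.sum_congr rfl fun g _ => hsum g, Finset.sum_const, Finset.card_univ, nsmul_eq_mul,
    ← Nat.card_eq_fintype_card, hχc, mul_assoc, hε2, mul_one, hn] at hid
  have hn0 : (n : ℂ) ≠ 0 := hn ▸ IsIrrCharacter.apply_one_ne_zero hχirr
  have hεn : (ε : ℂ) * n = 1 := by
    rw [eq_div_iff hn0, mul_assoc] at hid
    exact mul_left_cancel₀ (Nat.cast_ne_zero.2 Nat.card_pos.ne' : (Nat.card L : ℂ) ≠ 0)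
      (hid.trans (mul_one _).symm)
  have hn1 : n = 1 ∧ ε = 1 := by
    have h : ε * (n : ℤ) = 1 := by exact_mod_cast hεn
    rcases hε with rfl | rfl <;> omega
  obtain ⟨χ, hχ⟩ := IsCharacter.exists_hom (IsIrrCharacter.isCharacter hχirr)
    (by rw [hn, hn1.1, Nat.cast_one])
  have hχc1 : χ c = 1 := Units.ext (by
    have := congrFun hχ c
    rw [hχc, hn1.2] at this
    simpa using this.symm)
  refine ⟨χ, hχc1, fun x => Units.ext ?_⟩
  have := hcx 1 h1 x
  rw [hn1.2, hχ] at this
  simpa [map_mul, hχc1] using this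

end CfsgLib.TwoSolv
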