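import Cfsg.Agent.TwoSolv.Setup
import Cfsg.Agent.TwoSolv.Extend

/-!
Products in the set `S` of elements `a o` with `a ≠ 1` a `p`-element and `o ∈ θ(a)`: when the Sylow
`p`-subgroups have order at most `p²`, a product of two elements of `S` is `p`-regular or in `S`.
-/

set_option autoImplicit false
set_option linter.unusedSectionVars false
set_option linter.style.haveILetI false

namespace CfsgLib.TwoSolv

open Subgroup CfsgLib.Functor
open scoped CfsgLib.Functor

universe u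

variable {G : Type u} [Group G] [Finite G] {p : ℕ} [hp : Fact p.Prime]

/-- The set `S`. -/
def InS (p : ℕ) [Fact p.Prime] (g : G) : Prop := pp p g ≠ 1 ∧ pq p g ∈ theta p (pp p g)

/-- A `p`-element times an element of a normalised `p'`-subgroup is `p`-regular only trivially. -/
theorem eq_one_of_mul_regular {O : Subgroup G} (hO : (Nat.card O).Coprime p) {r o : G}
    (hr : IsPEl p r) (hrO : r ∈ normalizer (O : Set G)) (ho : o ∈ O)
    (h : ¬ p ∣ orderOf (r * o)) : r = 1 := by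
  haveI : (O.subgroupOf (normalizer (O : Set G))).Normal := normal_in_normalizer
  set π := QuotientGroup.mk' (O.subgroupOf (normalizer (O : Set G)))
  have hro : r * o ∈ normalizer (O : Set G) := mul_mem hrO (le_normalizer ho)
  have he : π ⟨r, hrO⟩ = π ⟨r * o, hro⟩ := QuotientGroup.eq.2 (mem_subgroupOf.2 (by simpa using ho))
  have h1 : IsPEl p (π ⟨r, hrO⟩) := by
    obtain ⟨k, hk⟩ := hr
    exact IsPEl.map π ⟨k, Subtype.ext hk⟩
  have h2 := h1.eq_one (fun hd => h (by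
    rw [he] at hd
    exact (hd.trans (orderOf_map_dvd π _)).trans (orderOf_coe (⟨r * o, hro⟩ : normalizer (O : Set G))).symm.dvd))
  exact hr.eq_one_of_mem hO (mem_subgroupOf.1 ((QuotientGroup.eq_one_iff _).1 h2))

/-- The kernel of the linear characters of a solvable group is trivial only for the trivial group. -/
theorem exists_hom_ne_one_of_solvable {Q : Type u} [Group Q] [Finite Q] [Group.IsSolvable Q]
    [Nontrivial Q] : ∃ μ : Q →* ℂˣ, μ ≠ 1 := by
  obtain ⟨g, -, hg⟩ := SetLike.exists_of_lt (Group.IsSolvable.commutator_lt_top_of_nontrivial (G := Q))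
  obtain ⟨μ, hμ⟩ := CfsgLib.Char.exists_hom_ne_one hg
  exact ⟨μ, fun h => hμ (by rw [h]; rfl)⟩

variable (c : Ctx p G)
include c

theorem Ctx.mem_core_of_regular {H R : Subgroup G} (hR : IsSylowIn p R H) {g : G}
    (hg : g ∈ R ⊔ SFT.oc' p H) (h : ¬ p ∣ orderOf g) : g ∈ SFT.oc' p H := by
  obtain ⟨r, hr, o, ho, rfl⟩ :=
    (Solvable.mem_sup_of_le_normalizer (hR.le.trans (SFT.le_normalizer_oc' p H))).1 hg
  rw [eq_one_of_mul_regular (SFT.coprime_card_oc' p H) (isPEl_of_mem hR.2.1 hr)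
    (SFT.le_normalizer_oc' p H (hR.le hr)) ho h, one_mul]
  exact ho

theorem Ctx.pq_mem_core {H : Subgroup G} (hH : Group.IsSolvable H) {z : G} (hz : InS p z)
    (hzH : z ∈ H) : pq p z ∈ SFT.oc' p H :=
  c.theta_inf_le (isPEl_pp z) hH (pp_mem hzH) ⟨hz.2, pq_mem hzH⟩

theorem Ctx.gen_le {z w : G} (hz : InS p z) (hw : InS p w) {R : Subgroup G}
    (hR : IsSylowIn p R (closure ({z, w} : Set G))) :
    closure ({z, w} : Set G) ≤ R ⊔ SFT.oc' p (closure ({z, w} : Set G)) := by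
  refine (closure_le _).2 ?_
  intro x hx
  have hxL : x ∈ closure ({z, w} : Set G) := subset_closure hx
  have hxS : InS p x := by rcases hx with rfl | rfl <;> assumption
  rw [← pp_mul_pq (p := p) x]
  exact mul_mem (c.pEl_mem (c.two z w) hR (pp_mem hxL) (isPEl_pp x))
    (mem_sup_right (c.pq_mem_core (c.two z w) hxS hxL))

variable (P : Sylow p G)

theorem Ctx.card_sylow (Q : Sylow p G) : Nat.card (Q : Subgroup G) = Nat.card (P : Subgroup G) := by
  rw [Q.card_eq_multiplicity, P.card_eq_multiplicity]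

/-- A `p`-subgroup of the full order containing `a` bounds the `p'`-part of `C(a)`. -/
theorem Ctx.le_theta_of_full {a : G} (ha1 : a ≠ 1) {T : Subgroup G} (hT : IsPGroup p T)
    (hcard : Nat.card (P : Subgroup G) ≤ Nat.card T) (haT : a ∈ T) {D : Subgroup G}
    (hDC : D ≤ centralizer ({a} : Set G)) (hD : (Nat.card D).Coprime p)
    (hTD : T ≤ normalizer (D : Set G)) : D ≤ theta p a := by
  obtain ⟨Q, hQ⟩ := hT.exists_le_sylow
  have he : T = (Q : Subgroup G) := eq_of_le_of_card_le' hQ (by rwa [c.card_sylow P])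
  exact c.le_theta Q ha1 (hQ haT) hDC hD (he ▸ hTD)

theorem Ctx.core_inf_centralizer_le {H T : Subgroup G} (hT : IsSylowIn p T H)
    (hcard : Nat.card (P : Subgroup G) ≤ Nat.card T) {a : G} (ha1 : a ≠ 1) (haT : a ∈ T) :
    SFT.oc' p H ⊓ centralizer ({a} : Set G) ≤ theta p a := by
  refine c.le_theta_of_full P ha1 hT.2.1 hcard haT inf_le_right
    ((SFT.coprime_card_oc' p H).coprime_dvd_left (card_dvd_of_le inf_le_left)) ?_
  refine SFT.le_normalizer_inf (hT.le.trans (SFT.le_normalizer_oc' p H)) ?_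
  refine (fun t ht => le_normalizer (mem_centralizer_singleton_iff.2 ?_))
  exact congrArg Subtype.val ((c.sylowIn_comm hT).is_comm.comm ⟨t, ht⟩ ⟨a, haT⟩)

/-- The product of an element with a conjugate of it, in a subgroup with Sylow subgroup `⟨a⟩`. -/
theorem Ctx.conj_product (hP2 : Nat.card (P : Subgroup G) = p ^ 2) {L : Subgroup G}
    (hL : Group.IsSolvable L) {a : G} (ha : IsPEl p a) (ha1 : a ≠ 1)
    (hR : IsSylowIn p (zpowers a) L) (hgen : L ≤ zpowers a ⊔ SFT.oc' p L) {g : G} (hg : g ∈ L) :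
    ∃ h ∈ L, ∃ x ∈ SFT.oc' p L ⊓ centralizer ({a} : Set G), x ∈ theta p a ∧
      g * a * g⁻¹ * a = h * (a ^ 2 * x) * h⁻¹ := by
  have hoa := c.orderOf_eq ha ha1
  have haL : a ∈ L := hR.le (mem_zpowers a)
  set a' := g * a * g⁻¹ with ha'
  have ha'p : IsPEl p a' := ha.conj g
  set H := closure ({a, a'} : Set G)
  have hH : Group.IsSolvable H := c.two a a'
  have haH : a ∈ H := subset_closure (Set.mem_insert _ _)
  have ha'H : a' ∈ H := subset_closure (Set.mem_insert_of_mem _ rfl)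
  have hHL : H ≤ L := (closure_le L).2 (Set.insert_subset haL
    (Set.singleton_subset_iff.2 (mul_mem (mul_mem hg haL) (inv_mem hg))))
  have hT : IsSylowIn p (zpowers a) H := hR.of_le (zpowers_le.2 haH) hHL
  have hHgen : H ≤ zpowers a ⊔ SFT.oc' p H := (closure_le _).2 (Set.insert_subset
    (mem_sup_left (mem_zpowers a)) (Set.singleton_subset_iff.2 (c.pEl_mem hH hT ha'H ha'p)))
  have hOH : ∀ y ∈ SFT.oc' p H, y ∈ SFT.oc' p L := fun y hy =>
    c.mem_core_of_regular hR (hgen (hHL (SFT.oc'_le p H hy)))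
      (not_dvd_orderOf_of_mem (SFT.coprime_card_oc' p H) hy)
  have haOH : a ∈ normalizer (SFT.oc' p H : Set G) := SFT.le_normalizer_oc' p H haH
  -- the two elements agree modulo the core of `H`
  have hmod : a⁻¹ * a' ∈ SFT.oc' p H := by
    obtain ⟨r, hr, o, ho, hro⟩ := (Solvable.mem_sup_of_le_normalizer
      (hT.le.trans (SFT.le_normalizer_oc' p H))).1 (hHgen ha'H)
    obtain ⟨r', hr', o', ho', hgr⟩ := (Solvable.mem_sup_of_le_normalizer
      (hR.le.trans (SFT.le_normalizer_oc' p L))).1 (hgen hg)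
    have hn : ∀ y ∈ L, ∀ u ∈ SFT.oc' p L, y * u * y⁻¹ ∈ SFT.oc' p L := fun y hy u hu =>
      SFT.conj_mem (SFT.le_normalizer_oc' p L) hy hu
    have h1 : a⁻¹ * a' ∈ SFT.oc' p L := by
      have hcomm : r' * a = a * r' := by
        obtain ⟨j, rfl⟩ := mem_zpowers_iff.1 hr'
        exact ((Commute.refl a).zpow_left j).eq
      have h2 : a' = a * (r' * (a⁻¹ * o' * a * o'⁻¹) * r'⁻¹) := by
        rw [ha', ← hgr]
        calc r' * o' * a * (r' * o')⁻¹ = (r' * a) * (a⁻¹ * o' * a * o'⁻¹) * r'⁻¹ := by group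
          _ = a * (r' * (a⁻¹ * o' * a * o'⁻¹) * r'⁻¹) := by rw [hcomm]; group
      rw [h2, inv_mul_cancel_left]
      refine hn r' (hR.le hr') _ (mul_mem ?_ (inv_mem ho'))
      simpa using hn a⁻¹ (inv_mem haL) o' ho'
    have h3 : a⁻¹ * r ∈ SFT.oc' p L := by
      rw [show a⁻¹ * r = a⁻¹ * a' * o⁻¹ by rw [← hro]; group]
      exact mul_mem h1 (inv_mem (hOH o ho))
    have h4 : a⁻¹ * r = 1 := (isPEl_of_mem ha.isPGroup_zpowers
      (mul_mem (inv_mem (mem_zpowers a)) hr)).eq_one_of_mem (SFT.coprime_card_oc' p L) h3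
    rw [← hro, inv_mul_eq_one.1 h4, inv_mul_cancel_left]
    exact ho
  obtain ⟨k, hk, hka⟩ := exists_conj_of_congr (SFT.coprime_card_oc' p H) ha ha'p haOH hmod
  -- an element outside `⟨a⟩` in a Sylow subgroup containing it
  obtain ⟨Q, hQ⟩ := ha.isPGroup_zpowers.exists_le_sylow
  have haQ : a ∈ (Q : Subgroup G) := hQ (mem_zpowers a)
  obtain ⟨e, heQ, hea⟩ : ∃ e ∈ (Q : Subgroup G), e ∉ zpowers a := by
    refine SetLike.not_le_iff_exists.1 fun hle => ?_
    have h5 := card_le_of_le hle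
    rw [c.card_sylow P, hP2, Nat.card_zpowers, hoa] at h5
    have : p < p ^ 2 := lt_self_pow₀ hp.out.one_lt (by norm_num)
    omega
  set L' := closure ({a, k * e} : Set G)
  have hL' : Group.IsSolvable L' := c.two a (k * e)
  have haL' : a ∈ L' := subset_closure (Set.mem_insert _ _)
  have hkeL' : k * e ∈ L' := subset_closure (Set.mem_insert_of_mem _ rfl)
  have ha'L' : a' ∈ L' := by
    have := mul_mem (mul_mem hkeL' haL') (inv_mem hkeL')
    rwa [show k * e * a * (k * e)⁻¹ = k * (e * a * e⁻¹) * k⁻¹ by group,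
      c.sylow_commute Q heQ haQ, mul_inv_cancel_right, hka] at this
  have hHL' : H ≤ L' := (closure_le L').2
    (Set.insert_subset haL' (Set.singleton_subset_iff.2 ha'L'))
  have heL' : e ∈ L' := by
    simpa using mul_mem (inv_mem (hHL' (SFT.oc'_le p H hk))) hkeL'
  obtain ⟨T', hT', hET⟩ := exists_sylowIn_ge
    (Q.2.to_le (sup_le (zpowers_le.2 haQ) (zpowers_le.2 heQ)))
    (sup_le (zpowers_le.2 haL') (zpowers_le.2 heL'))
  have hfull : Nat.card (P : Subgroup G) ≤ Nat.card T' := by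
    refine le_trans ?_ (card_le_of_le hET)
    obtain ⟨i, hi⟩ := IsPGroup.iff_card.1
      (Q.2.to_le (sup_le (zpowers_le.2 haQ) (zpowers_le.2 heQ)))
    rw [hP2, hi]
    refine Nat.pow_le_pow_right hp.out.pos ?_
    by_contra hi2
    refine hea ((eq_of_le_of_card_le' (le_sup_left : zpowers a ≤ zpowers a ⊔ zpowers e) ?_).ge
      (mem_sup_right (mem_zpowers e)))
    rw [hi, Nat.card_zpowers, hoa]
    exact (Nat.pow_le_pow_right hp.out.pos (by omega : i ≤ 1)).trans_eq (pow_one p)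
  have hHgen' : H ≤ T' ⊔ SFT.oc' p L' := (closure_le _).2 (Set.insert_subset
    (mem_sup_left (hET (mem_sup_left (mem_zpowers a))))
    (Set.singleton_subset_iff.2 (c.pEl_mem hL' hT' ha'L' ha'p)))
  -- the product
  set g₀ := a' * a with hg₀
  have hg₀H : g₀ ∈ H := mul_mem ha'H haH
  have hpq : pq p g₀ ∈ SFT.oc' p H :=
    c.mem_core_of_regular hT (hHgen (pq_mem hg₀H)) (not_dvd_orderOf_pq g₀)
  have hpp : (a ^ 2)⁻¹ * pp p g₀ ∈ SFT.oc' p H := by
    have e1 : (a ^ 2)⁻¹ * g₀ = a⁻¹ * (a⁻¹ * a') * a⁻¹⁻¹ := by rw [hg₀]; group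
    have e2 : (a ^ 2)⁻¹ * g₀ ∈ SFT.oc' p H := e1 ▸ SFT.conj_mem le_rfl (inv_mem haOH) hmod
    have := mul_mem e2 (inv_mem hpq)
    rwa [mul_assoc, ← eq_mul_inv_of_mul_eq (pp_mul_pq g₀)] at this
  obtain ⟨h, hh, hha⟩ := exists_conj_of_congr (SFT.coprime_card_oc' p H) (ha.pow 2)
    (isPEl_pp g₀) (pow_mem haOH 2) hpp
  set x := h⁻¹ * pq p g₀ * h
  have hxH : x ∈ SFT.oc' p H := mul_mem (mul_mem (inv_mem hh) hpq) hh
  have hxC : x ∈ centralizer ({a} : Set G) := by
    have hc2 : Commute x (a ^ 2) := by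
      have e : a ^ 2 = h⁻¹ * pp p g₀ * h := by rw [← hha]; group
      have e' := (commute_pp_pq (p := p) g₀).eq
      show x * a ^ 2 = a ^ 2 * x
      rw [e]
      calc h⁻¹ * pq p g₀ * h * (h⁻¹ * pp p g₀ * h) = h⁻¹ * (pq p g₀ * pp p g₀) * h := by group
        _ = h⁻¹ * (pp p g₀ * pq p g₀) * h := by rw [e']
        _ = _ := by simp only [x]; group
    obtain ⟨j, hj⟩ := exists_pow_eq_self_of_coprime (x := a) (n := 2)
      (hoa ▸ (Nat.coprime_primes Nat.prime_two hp.out).2 fun h => c.p_ne_two h.symm)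
    exact mem_centralizer_singleton_iff.2 (hj ▸ hc2.pow_right j).eq
  refine ⟨h, hHL (SFT.oc'_le p H hh), x, ⟨hOH x hxH, hxC⟩, ?_, ?_⟩
  · exact c.core_inf_centralizer_le P hT' hfull ha1 (hET (mem_sup_left (mem_zpowers a)))
      ⟨c.mem_core_of_regular hT' (hHgen' (SFT.oc'_le p H hxH))
        (not_dvd_orderOf_of_mem (SFT.coprime_card_oc' p H) hxH), hxC⟩
  · show g₀ = _
    conv_lhs => rw [← pp_mul_pq (p := p) g₀, ← hha]
    simp only [x]
    group

/-- In the subgroup generated by two elements of `S`, a Sylow subgroup `⟨a⟩` centralises only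
elements of `θ(a)` in the core. -/
theorem Ctx.core_inf_centralizer_le_of_line (hP2 : Nat.card (P : Subgroup G) = p ^ 2) {z w : G}
    (hz : InS p z) (hw : InS p w) {a : G} (ha : IsPEl p a) (ha1 : a ≠ 1)
    (hR : IsSylowIn p (zpowers a) (closure ({z, w} : Set G))) :
    SFT.oc' p (closure ({z, w} : Set G)) ⊓ centralizer ({a} : Set G) ≤ theta p a := by
  have hgen := c.gen_le hz hw hR
  have hL := c.two z w
  have hoa := c.orderOf_eq ha ha1
  set L := closure ({z, w} : Set G)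
  have haL : a ∈ L := hR.le (mem_zpowers a)
  set K : Subgroup L := Cfsg.pPrimeCore p L
  haveI : K.Normal := CfsgLib.Solvable.pPrimeCore_normal p
  set a₀ : L := ⟨a, haL⟩
  have hKmem : ∀ y : L, y ∈ K ↔ (y : G) ∈ SFT.oc' p L := fun y =>
    ⟨fun h => mem_map_of_mem L.subtype h, fun ⟨y', hy', h⟩ => Subtype.ext h ▸ hy'⟩
  have hCmem : ∀ y : L, y ∈ centralizer ({a₀} : Set L) ↔ (y : G) ∈ centralizer ({a} : Set G) :=
    fun y => by simp only [mem_centralizer_singleton_iff]; exact Subtype.ext_iff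
  -- the image of `C_K(a)` in `C(a)/θ(a)`
  set C := centralizer ({a} : Set G)
  haveI : ((theta p a).subgroupOf C).Normal := normal_subgroupOf_of_le_normalizer
    (Signalizer.centralizer_le_normalizer_centralizerPPrimeCore a)
  let ι : ↥(K ⊓ centralizer ({a₀} : Set L)) →* C :=
    (L.subtype.comp (K ⊓ centralizer ({a₀} : Set L)).subtype).codRestrict C
      fun y => (hCmem _).1 y.2.2
  set ψ := (QuotientGroup.mk' ((theta p a).subgroupOf C)).comp ι
  have hψ : ∀ y, ψ y = 1 ↔ ((y : L) : G) ∈ theta p a := fun y =>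
    (QuotientGroup.eq_one_iff _).trans mem_subgroupOf
  suffices hbot : ∀ y, ψ y = 1 by
    intro x hx
    have hxL : x ∈ L := SFT.oc'_le p L hx.1
    exact (hψ ⟨⟨x, hxL⟩, (hKmem _).2 hx.1, (hCmem _).2 hx.2⟩).1 (hbot _)
  by_contra hne
  push Not at hne
  obtain ⟨y₁, hy₁⟩ := hne
  haveI : Group.IsSolvable C := c.solvable_centralizer ha1
  haveI : Group.IsSolvable (C ⧸ (theta p a).subgroupOf C) :=
    Group.isSolvable_of_surjective (QuotientGroup.mk'_surjective _)
  haveI : Group.IsSolvable ψ.range := Group.isSolvable_of_isSolvable_injective ψ.range.subtype_injective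
  haveI : Nontrivial ψ.range :=
    nontrivial_of_ne ⟨ψ y₁, y₁, rfl⟩ 1 fun h => hy₁ (congrArg Subtype.val h)
  obtain ⟨μ, hμ⟩ := exists_hom_ne_one_of_solvable (Q := ψ.range)
  set lam := μ.comp ψ.rangeRestrict
  have hlam : ∀ y : ↥(K ⊓ centralizer ({a₀} : Set L)), ((y : L) : G) ∈ theta p a → lam y = 1 :=
    fun y hy => by
      rw [MonoidHom.comp_apply, show ψ.rangeRestrict y = 1 from Subtype.ext ((hψ y).2 hy), map_one]
  have hdec : ∀ g ∈ L, ∃ i : ℕ, ∃ o ∈ SFT.oc' p L, g = a ^ i * o := fun g hg => by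
    obtain ⟨r, hr, o, ho, rfl⟩ := (Solvable.mem_sup_of_le_normalizer
      (hR.le.trans (SFT.le_normalizer_oc' p L))).1 (hgen hg)
    classical
    obtain ⟨i, -, rfl⟩ := Finset.mem_image.1 (mem_zpowers_iff_mem_range_orderOf.1 hr)
    exact ⟨i, o, ho, rfl⟩
  obtain ⟨χ, hχa, hχ⟩ := exists_extension c.p_ne_two K (CfsgLib.Solvable.coprime_card_pPrimeCore p)
    a₀ (by rw [← orderOf_coe]; exact hoa) (fun g => by
      obtain ⟨i, o, ho, he⟩ := hdec g g.2
      refine ⟨a₀ ^ i * ⟨o, SFT.oc'_le p L ho⟩ * (a₀ ^ i)⁻¹,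
        (inferInstance : K.Normal).conj_mem _ ((hKmem _).2 ho) _, i, ?_⟩
      rw [inv_mul_cancel_right]
      exact Subtype.ext (by simpa using he)) lam (fun g => by
      obtain ⟨h, hh, x, hx, hxθ, he⟩ := c.conj_product P hP2 hL ha ha1 hR hgen g.2
      exact ⟨⟨h, hh⟩, ⟨⟨x, SFT.oc'_le p L hx.1⟩, (hKmem _).2 hx.1, (hCmem _).2 hx.2⟩,
        Subtype.ext (by simpa using he), hlam _ hxθ⟩)
  -- conjugates of powers of `a`
  have hpel : ∀ b ∈ L, IsPEl p b → b ≠ 1 → ∃ i : ℕ, ¬ p ∣ i ∧ ∃ k : G, ∃ hk : k ∈ SFT.oc' p L,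
      k * a ^ i * k⁻¹ = b := by
    intro b hb hbp hb1
    obtain ⟨i, o, ho, he⟩ := hdec b hb
    obtain ⟨k, hk, hkb⟩ := exists_conj_of_congr (SFT.coprime_card_oc' p L) (ha.pow i) hbp
      (pow_mem (SFT.le_normalizer_oc' p L haL) i) (by rw [he, inv_mul_cancel_left]; exact ho)
    refine ⟨i, fun hd => hb1 ?_, k, hk, hkb⟩
    obtain ⟨d, rfl⟩ := hd
    rw [← hkb, pow_mul, ← hoa, pow_orderOf_eq_one, one_pow, mul_one, mul_inv_cancel]
  have hker : ∀ (x : G) (hx : x ∈ L), InS p x → χ ⟨x, hx⟩ = 1 := by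
    intro x hx hxS
    obtain ⟨i, hi, k, hk, hkb⟩ := hpel _ (pp_mem hx) (isPEl_pp x) hxS.1
    set k₀ : L := ⟨k, SFT.oc'_le p L hk⟩
    have h1 : χ ⟨pp p x, pp_mem hx⟩ = 1 := by
      have : (⟨pp p x, pp_mem hx⟩ : L) = k₀ * a₀ ^ i * k₀⁻¹ := Subtype.ext (by simpa using hkb.symm)
      rw [this, map_mul, map_mul, map_pow, hχa, one_pow, mul_one, map_inv, mul_inv_cancel]
    have hqθ : pq p x ∈ (theta p a).map (MulAut.conj k).toMonoidHom := by
      rw [← c.theta_pow ha hi, ← c.theta_conj, hkb]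
      exact hxS.2
    obtain ⟨o, ho, hok⟩ := hqθ
    have hok' : k * o * k⁻¹ = pq p x := hok
    have hoL : o ∈ SFT.oc' p L := by
      have := mul_mem (mul_mem (inv_mem hk) (c.pq_mem_core hL hxS hx)) hk
      rwa [← hok', show k⁻¹ * (k * o * k⁻¹) * k = o by group] at this
    let o₀ : ↥(K ⊓ centralizer ({a₀} : Set L)) :=
      ⟨⟨o, SFT.oc'_le p L hoL⟩, (hKmem _).2 hoL, (hCmem _).2 (c.theta_le a ho)⟩
    have h2 : χ ⟨pq p x, pq_mem hx⟩ = 1 := by
      have : (⟨pq p x, pq_mem hx⟩ : L) = k₀ * (o₀ : L) * k₀⁻¹ := Subtype.ext (by simpa using hok'.symm)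
      rw [this, map_mul, map_mul, hχ o₀, hlam o₀ ho, mul_one, map_inv, mul_inv_cancel]
    have : (⟨x, hx⟩ : L) = ⟨pp p x, pp_mem hx⟩ * ⟨pq p x, pq_mem hx⟩ :=
      Subtype.ext (pp_mul_pq x).symm
    rw [this, map_mul, h1, h2, mul_one]
  have hχ1 : ∀ g : L, χ g = 1 := by
    have hle : L ≤ χ.ker.map L.subtype := by
      refine (closure_le _).2 (Set.insert_subset ?_ (Set.singleton_subset_iff.2 ?_))
      · exact ⟨_, hker z (subset_closure (Set.mem_insert _ _)) hz, rfl⟩
      · exact ⟨_, hker w (subset_closure (Set.mem_insert_of_mem _ rfl)) hw, rfl⟩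
    intro g
    obtain ⟨y, hy, he⟩ := hle g.2
    rwa [← Subtype.ext he]
  refine hμ (MonoidHom.ext fun q => ?_)
  obtain ⟨y, rfl⟩ := ψ.rangeRestrict_surjective q
  exact (hχ y).symm.trans (hχ1 _)

/-- A product of two elements of `S` is `p`-regular or in `S`. -/
theorem Ctx.product (hcard : Nat.card (P : Subgroup G) ≤ p ^ 2) {z w : G} (hz : InS p z)
    (hw : InS p w) (hne : pp p (z * w) ≠ 1) : InS p (z * w) := by
  refine ⟨hne, ?_⟩
  set L := closure ({z, w} : Set G)
  set a := pp p (z * w)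
  have hzw : z * w ∈ L :=
    mul_mem (subset_closure (Set.mem_insert _ _)) (subset_closure (Set.mem_insert_of_mem _ rfl))
  have ha : IsPEl p a := isPEl_pp _
  obtain ⟨R, hR, haR⟩ := exists_sylowIn_ge ha.isPGroup_zpowers (zpowers_le.2 (pp_mem hzw))
  have hv : pq p (z * w) ∈ SFT.oc' p L :=
    c.mem_core_of_regular hR (c.gen_le hz hw hR (pq_mem hzw)) (not_dvd_orderOf_pq _)
  have hva : pq p (z * w) ∈ centralizer ({a} : Set G) :=
    mem_centralizer_singleton_iff.2 (commute_pp_pq (z * w)).symm.eq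
  by_cases hfull : Nat.card (P : Subgroup G) ≤ Nat.card R
  · exact c.core_inf_centralizer_le P hR hfull hne (haR (mem_zpowers a)) ⟨hv, hva⟩
  have hoa := c.orderOf_eq ha hne
  obtain ⟨i, hi⟩ := IsPGroup.iff_card.1 hR.2.1
  obtain ⟨j, hj⟩ := IsPGroup.iff_card.1 P.2
  have h1 : 1 ≤ i := by
    by_contra h
    have := card_le_of_le haR
    rw [Nat.card_zpowers, hoa, hi, show i = 0 by omega, pow_zero] at this
    exact absurd this (not_le.2 hp.out.one_lt)
  have h2 : i < j := by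
    by_contra h
    exact hfull (by rw [hi, hj]; exact Nat.pow_le_pow_right hp.out.pos (by omega))
  have h3 : j ≤ 2 := by
    rw [hj] at hcard
    exact (Nat.pow_le_pow_iff_right hp.out.one_lt).1 hcard
  have hRa : zpowers a = R := eq_of_le_of_card_le' haR (by
    rw [hi, Nat.card_zpowers, hoa, show i = 1 by omega, pow_one])
  exact c.core_inf_centralizer_le_of_line P (by rw [hj, show j = 2 by omega]) hz hw ha hne
    (hRa ▸ hR) ⟨hv, hva⟩

end CfsgLib.TwoSolv
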