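import Cfsg.Agent.SFT.Tools
import Cfsg.Agent.Functor.Sylow
import Cfsg.Agent.Solvable.Glauberman
import Mathlib.Data.Nat.Factorization.Basic
import Mathlib.Data.Nat.ChineseRemainder

/-!
The `p`-part and `p'`-part of an element as fixed powers, congruent `p`-elements modulo a `p'`-subgroup,
and `p'`-subgroups normalised by an abelian Sylow subgroup of a solvable group.
-/

set_option autoImplicit false
set_option linter.unusedSectionVars false
set_option linter.style.haveILetI false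

namespace CfsgLib.TwoSolv

open Subgroup CfsgLib.Functor

variable {G : Type*} [Group G] {p : ℕ}

/-- A `p`-element. -/
def IsPEl (p : ℕ) (g : G) : Prop := ∃ k : ℕ, g ^ p ^ k = 1

theorem IsPEl.one : IsPEl p (1 : G) := ⟨0, one_pow _⟩

theorem IsPEl.pow {g : G} (h : IsPEl p g) (m : ℕ) : IsPEl p (g ^ m) := by
  obtain ⟨k, hk⟩ := h
  exact ⟨k, by rw [← pow_mul, mul_comm, pow_mul, hk, one_pow]⟩

theorem IsPEl.inv {g : G} (h : IsPEl p g) : IsPEl p g⁻¹ := by
  obtain ⟨k, hk⟩ := h
  exact ⟨k, by rw [inv_pow, hk, inv_one]⟩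

theorem IsPEl.conj {g : G} (h : IsPEl p g) (c : G) : IsPEl p (c * g * c⁻¹) := by
  obtain ⟨k, hk⟩ := h
  exact ⟨k, by rw [conj_pow, hk, mul_one, mul_inv_cancel]⟩

theorem IsPEl.map {M : Type*} [Group M] (f : G →* M) {g : G} (h : IsPEl p g) : IsPEl p (f g) := by
  obtain ⟨k, hk⟩ := h
  exact ⟨k, by rw [← map_pow, hk, map_one]⟩

theorem isPEl_of_mem {T : Subgroup G} (hT : IsPGroup p T) {g : G} (hg : g ∈ T) : IsPEl p g := by
  obtain ⟨k, hk⟩ := hT ⟨g, hg⟩
  exact ⟨k, by simpa using congrArg Subtype.val hk⟩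

theorem IsPEl.isPGroup_zpowers {g : G} (h : IsPEl p g) : IsPGroup p (zpowers g) := by
  obtain ⟨k, hk⟩ := h
  rintro ⟨x, hx⟩
  obtain ⟨i, rfl⟩ := mem_zpowers_iff.1 hx
  exact ⟨k, Subtype.ext (show (g ^ i) ^ p ^ k = 1 by
    rw [← zpow_natCast, zpow_comm, zpow_natCast, hk, one_zpow])⟩

variable [hp : Fact p.Prime]

theorem IsPEl.exists_orderOf {g : G} (h : IsPEl p g) : ∃ k : ℕ, orderOf g = p ^ k := by
  obtain ⟨k, hk⟩ := h
  obtain ⟨i, -, hi⟩ := (Nat.dvd_prime_pow hp.out).1 (orderOf_dvd_of_pow_eq_one hk)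
  exact ⟨i, hi⟩

theorem IsPEl.eq_one {g : G} (h : IsPEl p g) (h' : ¬ p ∣ orderOf g) : g = 1 := by
  obtain ⟨i, hi⟩ := h.exists_orderOf
  rcases i with _ | i
  · exact orderOf_eq_one_iff.1 (by rw [hi, pow_zero])
  · exact absurd (hi ▸ dvd_pow_self p i.succ_ne_zero) h'

theorem IsPEl.eq_one_of_mem {g : G} (h : IsPEl p g) {K : Subgroup G}
    (hK : (Nat.card K).Coprime p) (hg : g ∈ K) : g = 1 :=
  h.eq_one fun hd => hp.out.coprime_iff_not_dvd.1 hK.symm (hd.trans (K.orderOf_dvd_natCard hg))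

theorem not_dvd_orderOf_of_mem {K : Subgroup G} (hK : (Nat.card K).Coprime p) {g : G}
    (hg : g ∈ K) : ¬ p ∣ orderOf g := fun hd =>
  hp.out.coprime_iff_not_dvd.1 hK.symm (hd.trans (K.orderOf_dvd_natCard hg))

section Exponents

variable (G p)

/-- The exponent producing the `p`-part. -/
noncomputable def expP [Finite G] : ℕ :=
  (Nat.chineseRemainder (Nat.coprime_ordCompl hp.out (Nat.card_pos (α := G)).ne' |>.pow_left
    ((Nat.card G).factorization p)) 1 0 : ℕ)

/-- The exponent producing the `p'`-part. -/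
noncomputable def expQ [Finite G] : ℕ :=
  (Nat.chineseRemainder (Nat.coprime_ordCompl hp.out (Nat.card_pos (α := G)).ne' |>.pow_left
    ((Nat.card G).factorization p)) 0 1 : ℕ)

variable {p G} [Finite G]

theorem expP_spec : expP G p ≡ 1 [MOD p ^ (Nat.card G).factorization p] ∧
    expP G p ≡ 0 [MOD Nat.card G / p ^ (Nat.card G).factorization p] :=
  (Nat.chineseRemainder _ 1 0).2

theorem expQ_spec : expQ G p ≡ 0 [MOD p ^ (Nat.card G).factorization p] ∧
    expQ G p ≡ 1 [MOD Nat.card G / p ^ (Nat.card G).factorization p] :=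
  (Nat.chineseRemainder _ 0 1).2

/-- The `p`-part of an element. -/
noncomputable def pp (p : ℕ) [Fact p.Prime] (g : G) : G := g ^ expP G p

/-- The `p'`-part of an element. -/
noncomputable def pq (p : ℕ) [Fact p.Prime] (g : G) : G := g ^ expQ G p

theorem orderOf_dvd_ordProj {g : G} (h : IsPEl p g) :
    orderOf g ∣ p ^ (Nat.card G).factorization p := by
  obtain ⟨k, hk⟩ := h.exists_orderOf
  rw [hk]
  exact pow_dvd_pow _ ((hp.out.pow_dvd_iff_le_factorization Nat.card_pos.ne').1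
    (hk ▸ orderOf_dvd_natCard g))

theorem orderOf_dvd_ordCompl {g : G} (h : ¬ p ∣ orderOf g) :
    orderOf g ∣ Nat.card G / p ^ (Nat.card G).factorization p := by
  refine (Nat.Coprime.pow_right ((Nat.card G).factorization p)
    (hp.out.coprime_iff_not_dvd.2 h).symm).dvd_of_dvd_mul_left ?_
  rw [Nat.ordProj_mul_ordCompl_eq_self]
  exact orderOf_dvd_natCard g

theorem pp_mul_pq (g : G) : pp p g * pq p g = g := by
  rw [pp, pq, ← pow_add]
  conv_rhs => rw [← pow_one g]
  refine pow_eq_pow_iff_modEq.2 (Nat.ModEq.of_dvd (orderOf_dvd_natCard g) ?_)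
  rw [← Nat.ordProj_mul_ordCompl_eq_self (Nat.card G) p]
  exact (Nat.modEq_and_modEq_iff_modEq_mul
    (Nat.coprime_ordCompl hp.out Nat.card_pos.ne' |>.pow_left _)).1
    ⟨expP_spec.1.add expQ_spec.1, expP_spec.2.add expQ_spec.2⟩

theorem commute_pp_pq (g : G) : Commute (pp p g) (pq p g) := Commute.pow_pow_self g _ _

theorem isPEl_pp (g : G) : IsPEl p (pp p g) := by
  refine ⟨(Nat.card G).factorization p, ?_⟩
  rw [pp, ← pow_mul]
  refine orderOf_dvd_iff_pow_eq_one.1 ((orderOf_dvd_natCard g).trans ?_)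
  rw [mul_comm]
  conv_lhs => rw [← Nat.ordProj_mul_ordCompl_eq_self (Nat.card G) p]
  exact Nat.mul_dvd_mul_left _ (Nat.modEq_zero_iff_dvd.1 expP_spec.2)

theorem not_dvd_orderOf_pq (g : G) : ¬ p ∣ orderOf (pq p g) := fun hd => by
  refine Nat.not_dvd_ordCompl hp.out (Nat.card_pos (α := G)).ne' (hd.trans ?_)
  refine orderOf_dvd_of_pow_eq_one ?_
  rw [pq, ← pow_mul]
  refine orderOf_dvd_iff_pow_eq_one.1 ((orderOf_dvd_natCard g).trans ?_)
  conv_lhs => rw [← Nat.ordProj_mul_ordCompl_eq_self (Nat.card G) p]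
  exact Nat.mul_dvd_mul_right (Nat.modEq_zero_iff_dvd.1 expQ_spec.1) _

theorem pp_eq_self {g : G} (h : IsPEl p g) : pp p g = g := by
  rw [pp]
  conv_rhs => rw [← pow_one g]
  exact pow_eq_pow_iff_modEq.2 (expP_spec.1.of_dvd (orderOf_dvd_ordProj h))

theorem pq_eq_self {g : G} (h : ¬ p ∣ orderOf g) : pq p g = g := by
  rw [pq]
  conv_rhs => rw [← pow_one g]
  exact pow_eq_pow_iff_modEq.2 (expQ_spec.2.of_dvd (orderOf_dvd_ordCompl h))

theorem pp_eq_one {g : G} (h : ¬ p ∣ orderOf g) : pp p g = 1 :=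
  orderOf_dvd_iff_pow_eq_one.1
    ((orderOf_dvd_ordCompl h).trans (Nat.modEq_zero_iff_dvd.1 expP_spec.2))

theorem pq_eq_one {g : G} (h : IsPEl p g) : pq p g = 1 :=
  orderOf_dvd_iff_pow_eq_one.1
    ((orderOf_dvd_ordProj h).trans (Nat.modEq_zero_iff_dvd.1 expQ_spec.1))

theorem pp_mul {x y : G} (hc : Commute x y) (hx : IsPEl p x) (hy : ¬ p ∣ orderOf y) :
    pp p (x * y) = x := by
  have h1 := pp_eq_self hx
  have h2 := pp_eq_one hy
  unfold pp at *
  rw [hc.mul_pow, h1, h2, mul_one]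

theorem pq_mul {x y : G} (hc : Commute x y) (hx : IsPEl p x) (hy : ¬ p ∣ orderOf y) :
    pq p (x * y) = y := by
  have h1 := pq_eq_one hx
  have h2 := pq_eq_self hy
  unfold pq at *
  rw [hc.mul_pow, h1, h2, one_mul]

theorem pp_eq_one_iff {g : G} : pp p g = 1 ↔ ¬ p ∣ orderOf g := by
  refine ⟨fun h => ?_, pp_eq_one⟩
  have := pp_mul_pq (p := p) g
  rw [h, one_mul] at this
  exact this ▸ not_dvd_orderOf_pq g

theorem pp_conj (c g : G) : pp p (c * g * c⁻¹) = c * pp p g * c⁻¹ := conj_pow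

theorem pq_conj (c g : G) : pq p (c * g * c⁻¹) = c * pq p g * c⁻¹ := conj_pow

theorem pp_inv (g : G) : pp p g⁻¹ = (pp p g)⁻¹ := inv_pow _ _

theorem pq_inv (g : G) : pq p g⁻¹ = (pq p g)⁻¹ := inv_pow _ _

theorem pp_mem {H : Subgroup G} {g : G} (hg : g ∈ H) : pp p g ∈ H := H.pow_mem hg _

theorem pq_mem {H : Subgroup G} {g : G} (hg : g ∈ H) : pq p g ∈ H := H.pow_mem hg _

/-- A homomorphism maps `p`-parts to elements of the same kind. -/
theorem map_pp_eq_one_iff {M : Type*} [Group M] (f : G →* M) {g : G} :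
    f (pp p g) = 1 ↔ ¬ p ∣ orderOf (f g) := by
  constructor
  · intro h hd
    have : f g = f (pq p g) := by
      conv_lhs => rw [← pp_mul_pq (p := p) g, map_mul, h, one_mul]
    exact not_dvd_orderOf_pq g ((this ▸ hd).trans (orderOf_map_dvd f _))
  · intro h
    refine ((isPEl_pp g).map f).eq_one fun hd => h (hd.trans ?_)
    rw [pp, map_pow]
    exact orderOf_pow_dvd _

end Exponents

variable [Finite G]

/-- Congruent `p`-elements modulo a `p'`-subgroup are conjugate by it. -/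
theorem exists_conj_of_congr {K : Subgroup G} (hK : (Nat.card K).Coprime p) {x y : G}
    (hx : IsPEl p x) (hy : IsPEl p y) (hxK : x ∈ normalizer (K : Set G)) (hxy : x⁻¹ * y ∈ K) :
    ∃ k ∈ K, k * x * k⁻¹ = y := by
  have hKn : (K.subgroupOf (normalizer (K : Set G))).Normal := normal_in_normalizer
  set π := QuotientGroup.mk' (K.subgroupOf (normalizer (K : Set G))) with hπ
  have hyK : y ∈ normalizer (K : Set G) := by
    rw [← mul_inv_cancel_left x y]
    exact mul_mem hxK (le_normalizer hxy)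
  have hord : ∀ z : normalizer (K : Set G), IsPEl p (z : G) → orderOf (π z) = orderOf (z : G) := by
    intro z hz
    refine Nat.dvd_antisymm ((orderOf_map_dvd π z).trans (Subgroup.orderOf_coe z).symm.dvd) ?_
    refine orderOf_dvd_of_pow_eq_one ?_
    have h1 : π (z ^ orderOf (π z)) = 1 := by rw [map_pow, pow_orderOf_eq_one]
    exact (hz.pow _).eq_one_of_mem hK (mem_subgroupOf.1 ((QuotientGroup.eq_one_iff _).1 h1))
  have hπxy : π ⟨x, hxK⟩ = π ⟨y, hyK⟩ := QuotientGroup.eq.2 (mem_subgroupOf.2 hxy)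
  have ho : orderOf x = orderOf y := by rw [← hord ⟨x, hxK⟩ hx, hπxy, hord ⟨y, hyK⟩ hy]
  set A := zpowers x
  set B := zpowers y
  have hAK : A ≤ normalizer (K : Set G) := zpowers_le.2 hxK
  obtain ⟨i, hi⟩ := hx.exists_orderOf
  have hcop : (Nat.card A).Coprime (Nat.card K) := by
    rw [Nat.card_zpowers, hi]; exact hK.symm.pow_left i
  have hbm : y ∈ A ⊔ K := by
    rw [← mul_inv_cancel_left x y]
    exact mul_mem (mem_sup_left (mem_zpowers x)) (mem_sup_right hxy)
  obtain ⟨o, ho', hoAB⟩ := SZ.conj_rel hAK hcop (Or.inl inferInstance) (zpowers_le.2 hbm)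
    (by rw [Nat.card_zpowers, Nat.card_zpowers, ho])
  refine ⟨o, ho', ?_⟩
  have h1 : o * x * o⁻¹ ∈ B := by
    show o * x * o⁻¹ ∈ zpowers y
    rw [← hoAB]
    exact ⟨x, mem_zpowers x, rfl⟩
  have h2 : (o * x * o⁻¹)⁻¹ * y ∈ K := by
    rw [show (o * x * o⁻¹)⁻¹ * y = o * (x⁻¹ * o⁻¹ * x) * (x⁻¹ * y) by group]
    refine mul_mem (mul_mem ho' ?_) hxy
    have := (mem_normalizer_iff.1 (inv_mem hxK) o⁻¹).1 (inv_mem ho')
    rwa [inv_inv] at this
  exact inv_mul_eq_one.1
    ((isPEl_of_mem hy.isPGroup_zpowers (mul_mem (inv_mem h1) (mem_zpowers y))).eq_one_of_mem hK h2)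

/-- In a solvable subgroup, a `p'`-subgroup normalised by an abelian Sylow subgroup lies in the
`p'`-core. -/
theorem le_oc'_of_normalized {H R D : Subgroup G} (hH : Group.IsSolvable H)
    (hR : IsSylowIn p R H) (hab : IsMulCommutative R) (hDH : D ≤ H) (hD : (Nat.card D).Coprime p)
    (hRD : R ≤ normalizer (D : Set G)) : D ≤ SFT.oc' p H := by
  haveI := hH
  obtain ⟨S, hS⟩ := hR.exists_sylow
  set O := Cfsg.pPrimeCore p H
  set π := QuotientGroup.mk' O with hπdef
  have hπ : Function.Surjective π := QuotientGroup.mk'_surjective O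
  have hSR : (S : Subgroup H) = R.subgroupOf H := by
    rw [← hS, subgroupOf, comap_map_eq_self_of_injective H.subtype_injective]
  haveI := hab
  haveI hSab : IsMulCommutative (S : Subgroup H) := by
    rw [hSR]; infer_instance
  haveI : IsMulCommutative (S.mapSurjective hπ : Subgroup (H ⧸ O)) :=
    Subgroup.map_isMulCommutative (S : Subgroup H) π
  have hF := Fitting.abelian_sylow_eq_pCore (G := H ⧸ O) (Fitting.pPrimeCore_quotient_eq_bot p)
    (S.mapSurjective hπ) (le_centralizer_iff_isMulCommutative.2 inferInstance)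
  set F := Cfsg.pCore p (H ⧸ O)
  set D' := (D.subgroupOf H).map π
  have hD' : (Nat.card D').Coprime p := by
    refine hD.coprime_dvd_left ((card_map_dvd _ _).trans ?_)
    rw [Nat.card_congr (subgroupOfEquivOfLe hDH).toEquiv]
  have hFD : F ≤ normalizer (D' : Set (H ⧸ O)) := by
    rw [← hF]
    show (S : Subgroup H).map π ≤ _
    refine (map_mono ?_).trans (le_normalizer_map π)
    intro s hs
    rw [hSR, mem_subgroupOf] at hs
    exact mem_normalizer_iff.2 fun d => by
      simpa [mem_subgroupOf] using mem_normalizer_iff.1 (hRD hs) (d : G)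
  have hcomm := SFT.commute_of_coprime (X := D') (Y := F) le_normalizer_of_normal hFD
    (SFT.coprime_of_pgroup (CfsgLib.Solvable.isPGroup_pCore p) hD').symm
  have hle : D' ≤ F := hcomm.trans (Signalizer.centralizer_pCore_quotient_le)
  have hbot : D' = ⊥ := SFT.eq_bot_of_pgroup_of_coprime
    ((CfsgLib.Solvable.isPGroup_pCore p).to_le hle) hD'
  rw [← map_subgroupOf_eq_of_le hDH]
  refine map_mono ?_
  rw [Subgroup.map_eq_bot_iff, QuotientGroup.ker_mk'] at hbot
  exact hbot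

end CfsgLib.TwoSolv
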