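import Cfsg.Agent.TwoSolv.Setup
import Cfsg.Agent.SFT.Reduction

/-!
A minimal counterexample has no large prime with Sylow subgroups of order at least `p³`: the
signalizer functor of centraliser cores gives a proper subgroup containing all centralisers, and
with it every conjugate of an element of order `p`.
-/

set_option autoImplicit false
set_option linter.unusedSectionVars false
set_option linter.style.haveILetI false

namespace CfsgLib.TwoSolv

open Subgroup CfsgLib.Functor
open scoped CfsgLib.Functor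

universe u

variable {G : Type u} [Group G] [Finite G] {p : ℕ} [hp : Fact p.Prime] (c : Ctx p G)
include c

/-- A `p`-element lying outside `⟨x⟩`, in a Sylow subgroup of `H` containing `x`, puts all
`p`-elements of `H` into a subgroup containing all the centralisers. -/
theorem Ctx.mem_of_rank_two {P : Sylow p G} {M : Subgroup G}
    (hM : ∀ a ∈ (P : Subgroup G), a ≠ 1 → centralizer ({a} : Set G) ≤ M) {x : G}
    (hx : x ∈ (P : Subgroup G)) (hx1 : x ≠ 1) {H R : Subgroup G} (hH : Group.IsSolvable H)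
    (hR : IsSylowIn p R H) (hxR : x ∈ R) {e : G} (heR : e ∈ R) (he : e ∉ zpowers x) {y : G}
    (hyH : y ∈ H) (hy : IsPEl p y) : y ∈ M := by
  have hRc := c.sylowIn_comm hR
  have hRx : R ≤ centralizer ({x} : Set G) := fun r hr => mem_centralizer_singleton_iff.2
    (congrArg Subtype.val (hRc.is_comm.comm ⟨r, hr⟩ ⟨x, hxR⟩))
  have hRM : R ≤ M := hRx.trans (hM x hx hx1)
  obtain ⟨n, hn, hnR⟩ := (c.theta_isSylowIn P hx).exists_cj_le hR.2.1 hRx
  have hnM : n ∈ M := hM x hx hx1 hn
  have hA : Cfsg.IsElementaryAbelian p R :=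
    ⟨hRc, fun r hr => c.pow_eq_one_of_isPEl (isPEl_of_mem hR.2.1 hr)⟩
  have h2 : p ^ 2 ≤ Nat.card R := by
    obtain ⟨k, hk⟩ := IsPGroup.iff_card.1 hR.2.1
    rw [hk]
    refine Nat.pow_le_pow_right hp.out.pos ?_
    by_contra hk2
    have hle : zpowers x ≤ R := zpowers_le.2 hxR
    refine he ((eq_of_le_of_card_le' hle ?_).ge heR)
    rw [hk, Signalizer.card_zpowers_eq hA hxR hx1]
    exact (Nat.pow_le_pow_right hp.out.pos (by omega : k ≤ 1)).trans_eq (pow_one p)
  have hK : SFT.oc' p H ≤ M := by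
    refine Signalizer.le_of_forall_centralizer hA le_rfl h2
      (hR.le.trans (SFT.le_normalizer_oc' p H))
      (fun hd => hp.out.coprime_iff_not_dvd.1 (SFT.coprime_card_oc' p H).symm hd)
      fun d hd hd1 g hg => ?_
    have hdP : n * d * n⁻¹ ∈ (P : Subgroup G) := cj_le_iff.1 hnR d hd
    have hgd : n * g * n⁻¹ ∈ centralizer ({n * d * n⁻¹} : Set G) := by
      refine mem_centralizer_singleton_iff.2 ?_
      calc n * g * n⁻¹ * (n * d * n⁻¹) = n * (g * d) * n⁻¹ := by group
        _ = n * (d * g) * n⁻¹ := by rw [mem_centralizer_singleton_iff.1 hg.2]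
        _ = n * d * n⁻¹ * (n * g * n⁻¹) := by group
    have := mul_mem (mul_mem (inv_mem hnM)
      (hM _ hdP (fun h => hd1 (conj_eq_one_iff.1 h)) hgd)) hnM
    simpa [mul_assoc] using this
  exact (sup_le hRM hK) (c.pEl_mem hH hR hyH hy)

/-- A subgroup containing all centralisers of a Sylow subgroup of rank at least two contains every
conjugate of its elements. -/
theorem Ctx.conj_mem_of_centralizers {P : Sylow p G} {M : Subgroup G}
    (hM : ∀ a ∈ (P : Subgroup G), a ≠ 1 → centralizer ({a} : Set G) ≤ M) {x : G}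
    (hx : x ∈ (P : Subgroup G)) (hx1 : x ≠ 1) {e : G} (heP : e ∈ (P : Subgroup G))
    (he : e ∉ zpowers x) (g : G) : g * x * g⁻¹ ∈ M := by
  set y := g * x * g⁻¹ with hy
  have hxp : IsPEl p x := isPEl_of_mem P.2 hx
  have hyp : IsPEl p y := hxp.conj g
  set L := closure ({x, y} : Set G)
  have hxL : x ∈ L := subset_closure (Set.mem_insert _ _)
  have hyL : y ∈ L := subset_closure (Set.mem_insert_of_mem _ rfl)
  obtain ⟨R, hR, hxR⟩ := exists_sylowIn_ge hxp.isPGroup_zpowers (zpowers_le.2 hxL)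
  by_cases hbig : R ≤ zpowers x
  swap
  · obtain ⟨e', he'R, he'⟩ := SetLike.not_le_iff_exists.1 hbig
    exact c.mem_of_rank_two hM hx hx1 (c.two x y) hR (hxR (mem_zpowers x)) he'R he' hyL hyp
  set O := SFT.oc' p L
  obtain ⟨r, hr, o, ho, hro⟩ :=
    (Solvable.mem_sup_of_le_normalizer (hR.le.trans (SFT.le_normalizer_oc' p L))).1
      (c.pEl_mem (c.two x y) hR hyL hyp)
  have hr' := hbig hr
  obtain ⟨k, hk, hky⟩ := exists_conj_of_congr (SFT.coprime_card_oc' p L)
    (isPEl_of_mem hxp.isPGroup_zpowers hr') hyp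
    (SFT.le_normalizer_oc' p L (hR.le hr)) (by rw [← hro, inv_mul_cancel_left]; exact ho)
  obtain ⟨j, rfl⟩ := mem_zpowers_iff.1 hr'
  set L' := closure ({x, k * e} : Set G)
  have hxL' : x ∈ L' := subset_closure (Set.mem_insert _ _)
  have hkeL' : k * e ∈ L' := subset_closure (Set.mem_insert_of_mem _ rfl)
  have hkx : k * x * k⁻¹ ∈ L' := by
    have := mul_mem (mul_mem hkeL' hxL') (inv_mem hkeL')
    rwa [show k * e * x * (k * e)⁻¹ = k * (e * x * e⁻¹) * k⁻¹ by group,
      c.sylow_commute P heP hx, mul_inv_cancel_right] at this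
  have hyL' : y ∈ L' := by
    rw [← hky, ← conj_zpow]
    exact zpow_mem hkx j
  have hkL' : k ∈ L' := closure_le L' |>.2 (Set.insert_subset hxL'
    (Set.singleton_subset_iff.2 hyL')) (SFT.oc'_le p L hk)
  have heL' : e ∈ L' := by
    simpa using mul_mem (inv_mem hkL') hkeL'
  obtain ⟨R', hR', hER⟩ := exists_sylowIn_ge
    (P.2.to_le (sup_le (zpowers_le.2 hx) (zpowers_le.2 heP)))
    (sup_le (zpowers_le.2 hxL') (zpowers_le.2 heL'))
  exact c.mem_of_rank_two hM hx hx1 (c.two x (k * e)) hR' (hER (mem_sup_left (mem_zpowers x)))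
    (hER (mem_sup_right (mem_zpowers e))) he hyL' hyp

/-- Sylow subgroups for primes at least five have order at most `p²`. -/
theorem Ctx.card_lt (P : Sylow p G) : Nat.card (P : Subgroup G) < p ^ 3 := by
  by_contra h3
  push Not at h3
  set A := (P : Subgroup G)
  have hA := c.elementary P
  have hθ : Cfsg.IsSolvableSignalizerFunctor p A (theta p) := by
    refine ⟨⟨fun a _ _ => c.theta_le a, fun a _ _ => ?_, fun a ha _ => ?_,
      fun a ha _ b hb hb1 => Signalizer.centralizerPPrimeCore_inf_le (hA.2 a ha)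
        (c.sylow_commute P ha hb) (c.solvable_centralizer hb1)⟩, fun a _ ha1 => ?_⟩
    · exact hp.out.coprime_iff_not_dvd.1 (c.coprime_theta a).symm
    · exact Signalizer.conj_mem_of_le_normalizer ((Signalizer.le_centralizer_singleton hA ha).trans
        (Signalizer.centralizer_le_normalizer_centralizerPPrimeCore a))
    · exact SFT.isSolvable_of_le (c.theta_le a) (c.solvable_centralizer ha1)
  obtain ⟨X, hX, hle⟩ := CfsgLib.SFT.complete A (theta p) hA h3 hθ
  set W := ⨆ a : {a : G // a ∈ A ∧ a ≠ 1}, theta p (a : G)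
  have hθW : ∀ a ∈ A, a ≠ 1 → theta p a ≤ W := fun a ha ha1 =>
    le_iSup_of_le (f := fun b : {a : G // a ∈ A ∧ a ≠ 1} => theta p (b : G)) ⟨a, ha, ha1⟩ le_rfl
  have hWp : ¬ p ∣ Nat.card W := fun hd =>
    hX.2.1 (hd.trans (card_dvd_of_le (iSup_le fun a => hle a a.2.1 a.2.2)))
  have hNW : normalizer (A : Set G) ≤ normalizer (W : Set G) := by
    intro n hn
    rw [mem_normalizer_iff_cj]
    refine eq_of_le_of_card_le' ?_ (card_cj n W).ge
    rw [Subgroup.map_iSup]
    refine iSup_le fun a => ?_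
    rw [← c.theta_conj]
    exact hθW _ ((mem_normalizer_iff.1 hn _).1 a.2.1) fun h => a.2.2 (conj_eq_one_iff.1 h)
  obtain ⟨M, hMtop, hMC⟩ : ∃ M : Subgroup G, M ≠ ⊤ ∧
      ∀ a ∈ A, a ≠ 1 → centralizer ({a} : Set G) ≤ M := by
    have hdec : ∀ M : Subgroup G, normalizer (A : Set G) ≤ M → W ≤ M →
        ∀ a ∈ A, a ≠ 1 → centralizer ({a} : Set G) ≤ M := fun M hN hW a ha ha1 g hg => by
      obtain ⟨o, ho, hn⟩ := c.centralizer_decomp P ha1 ha hg
      have := mul_mem (hW (hθW a ha ha1 ho)) (hN hn)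
      simpa using this
    by_cases hW : W = ⊥
    · exact ⟨_, c.normalizer_sylow_ne_top P, hdec _ le_rfl (hW.le.trans bot_le)⟩
    · refine ⟨normalizer (W : Set G), fun h => ?_, hdec _ hNW le_normalizer⟩
      haveI := c.simple
      rcases IsSimpleGroup.eq_bot_or_eq_top_of_normal W (normalizer_eq_top_iff.1 h) with h1 | h1
      · exact hW h1
      · exact hWp (by rw [h1, card_top]; exact c.hdvd)
  obtain ⟨x, hx, hx1⟩ := A.bot_or_exists_ne_one.resolve_left (c.sylow_ne_bot P)
  obtain ⟨e, he, hex⟩ : ∃ e ∈ A, e ∉ zpowers x := by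
    refine SetLike.not_le_iff_exists.1 fun hle => ?_
    have h4 := card_le_of_le hle
    rw [Signalizer.card_zpowers_eq hA hx hx1] at h4
    have : p < p ^ 3 := lt_self_pow₀ hp.out.one_lt (by norm_num)
    omega
  haveI := c.simple
  refine hMtop (top_unique ((?_ : (⊤ : Subgroup G) ≤ normalClosure ({x} : Set G)).trans ?_))
  · rcases IsSimpleGroup.eq_bot_or_eq_top_of_normal _ (normalClosure_normal (s := ({x} : Set G)))
      with h | h
    · exact absurd (mem_bot.1 (h ▸ subset_normalClosure rfl)) hx1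
    · exact h.ge
  · rw [normalClosure, closure_le]
    intro u hu
    obtain ⟨a, ha, hau⟩ := Group.mem_conjugatesOfSet_iff.1 hu
    obtain ⟨g, rfl⟩ := isConj_iff.1 hau
    rw [Set.mem_singleton_iff.1 ha]
    exact c.conj_mem_of_centralizers hMC hx hx1 he hex g

end CfsgLib.TwoSolv
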