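import Cfsg.Agent.Blocks.CharExtra
import Cfsg.Agent.Char.Orthogonality
import Mathlib.LinearAlgebra.Trace
import Mathlib.Algebra.Ring.Idempotent

/-!
Character identities for a conjugation-invariant set and pairs in it with product in it, and a
bound for a character sum over a coset of a centralised subgroup by fixed point dimensions.
-/

set_option autoImplicit false
set_option linter.unusedSectionVars false
set_option linter.style.haveILetI false

namespace CfsgLib.TwoSolv

open Finset Module CfsgLib.Char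
open scoped ComplexConjugate Classical

universe u

variable {G : Type u} [Group G] [Fintype G]

theorem indicator_classFunction {S : Finset G} (hS : ∀ g ∈ S, ∀ d : G, d * g * d⁻¹ ∈ S) :
    Cfsg.IsClassFunction G (fun g => if g ∈ S then (1 : ℂ) else 0) := fun g d =>
  if_congr ⟨fun h => by simpa [mul_assoc] using hS _ h d⁻¹, fun h => hS g h d⟩ rfl rfl

theorem classInner_indicator (S : Finset G) (χ : G → ℂ) :
    Cfsg.classInner (fun g => if g ∈ S then (1 : ℂ) else 0) χ =
      (Nat.card G : ℂ)⁻¹ * conj (∑ g ∈ S, χ g) := by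
  rw [classInner_def, map_sum]
  congr 1
  simp only [ite_mul, one_mul, zero_mul]
  rw [Finset.sum_ite_mem, Finset.univ_inter]

/-- The second moment of the sums over `S`. -/
theorem sum_sq_sums {S : Finset G} (hS : ∀ g ∈ S, ∀ d : G, d * g * d⁻¹ ∈ S) :
    ∑ χ ∈ irrFinset G, (∑ g ∈ S, χ g) * conj (∑ g ∈ S, χ g) = (Nat.card G : ℂ) * S.card := by
  have hG : (Nat.card G : ℂ) ≠ 0 := Nat.cast_ne_zero.2 Nat.card_pos.ne'
  have h := classInner_eq_sum_irr (indicator_classFunction hS) (fun g => if g ∈ S then (1 : ℂ) else 0)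
  rw [classInner_indicator] at h
  simp only [classInner_indicator, map_mul, map_inv₀, map_natCast, Complex.conj_conj] at h
  rw [Finset.sum_congr rfl (fun g hg => if_pos hg), Finset.sum_const, nsmul_one, map_natCast] at h
  have h2 : ∑ χ ∈ irrFinset G, (Nat.card G : ℂ)⁻¹ * conj (∑ g ∈ S, χ g) *
      ((Nat.card G : ℂ)⁻¹ * ∑ g ∈ S, χ g) =
      (Nat.card G : ℂ)⁻¹ * (Nat.card G : ℂ)⁻¹ *
        ∑ χ ∈ irrFinset G, (∑ g ∈ S, χ g) * conj (∑ g ∈ S, χ g) := by
    rw [Finset.mul_sum]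
    exact Finset.sum_congr rfl fun χ _ => by ring
  rw [h2] at h
  field_simp at h
  linear_combination -h

/-- The number of pairs in `S` with product in `S`. -/
theorem sum_pairs {S : Finset G} (hS : ∀ g ∈ S, ∀ d : G, d * g * d⁻¹ ∈ S) :
    (Nat.card G : ℂ) * ((S ×ˢ S).filter fun x => x.1 * x.2 ∈ S).card =
      ∑ χ ∈ irrFinset G, conj (∑ g ∈ S, χ g) * ((∑ g ∈ S, χ g) * (∑ g ∈ S, χ g) / χ 1) := by
  have hG : (Nat.card G : ℂ) ≠ 0 := Nat.cast_ne_zero.2 Nat.card_pos.ne'
  set φ : G → ℂ := fun g => if g ∈ S then (1 : ℂ) else 0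
  have hφ : Cfsg.IsClassFunction G φ := indicator_classFunction hS
  have hL : (((S ×ˢ S).filter fun x => x.1 * x.2 ∈ S).card : ℂ) =
      ∑ z ∈ S, ∑ w ∈ S, φ (z * w) := by
    rw [← Finset.sum_product', Finset.sum_boole]
  have hpair : ∀ χ ∈ irrFinset G, ∑ z ∈ S, ∑ w ∈ S, χ (z * w) =
      (∑ g ∈ S, χ g) * (∑ g ∈ S, χ g) / χ 1 := fun χ hχ => by
    have h := CfsgLib.Block.Chr.class_mul ⟨χ, mem_irrFinset.1 hχ⟩ hφ φ
    simp only [φ, ite_mul, mul_ite, one_mul, zero_mul, mul_one, mul_zero, Finset.sum_ite_mem,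
      Finset.univ_inter] at h
    rw [eq_div_iff (IsIrrCharacter.apply_one_ne_zero (mem_irrFinset.1 hχ))]
    refine Eq.trans ?_ h
    congr 1
    symm
    rw [Finset.sum_comm]
    simp only [Finset.sum_ite_mem, Finset.univ_inter]
    rw [Finset.sum_comm]
  rw [hL]
  have hexp : ∀ g : G, φ g = ∑ χ ∈ irrFinset G, Cfsg.classInner φ χ * χ g := fun g => by
    conv_lhs => rw [eq_sum_irr hφ]
    rw [Finset.sum_apply]
    rfl
  rw [Finset.sum_congr rfl fun z _ => Finset.sum_congr rfl fun w _ => hexp (z * w)]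
  rw [Finset.sum_congr rfl fun z _ => Finset.sum_comm, Finset.sum_comm, Finset.mul_sum]
  refine Finset.sum_congr rfl fun χ hχ => ?_
  rw [← hpair χ hχ, classInner_indicator]
  simp only [Finset.mul_sum]
  refine Finset.sum_congr rfl fun z _ => Finset.sum_congr rfl fun w _ => ?_
  field_simp

variable {V : Type*} [AddCommGroup V] [Module ℂ V] [FiniteDimensional ℂ V]

theorem trace_idempotent {f : Module.End ℂ V} (hf : IsIdempotentElem f) :
    ∃ n : ℕ, LinearMap.trace ℂ V f = n :=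
  ⟨_, ((LinearMap.isProj_range_iff_isIdempotentElem f).2 hf).trace⟩

theorem trace_mul_le {e f : Module.End ℂ V} (he : IsIdempotentElem e) (hf : IsIdempotentElem f)
    (hc : Commute e f) : (LinearMap.trace ℂ V (e * f)).re ≤ (LinearMap.trace ℂ V e).re := by
  obtain ⟨n, hn⟩ := trace_idempotent
    (he.mul_of_commute ((Commute.one_right e).sub_right hc) hf.one_sub)
  rw [mul_sub, mul_one, map_sub] at hn
  have h1 := congrArg Complex.re hn
  rw [Complex.sub_re, Complex.natCast_re] at h1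
  linarith [Nat.cast_nonneg (α := ℝ) n]

/-- A coset sum of a character. -/
theorem sum_coset_le {p : ℕ} (hp : 0 < p) (ρ : Representation ℂ G V) (T : Subgroup G) {a : G}
    (ha : a ^ p = 1) (hc : ∀ t ∈ T, Commute a t) :
    (∑ i ∈ (range p).erase 0, ∑ o ∈ univ.filter (fun o => o ∈ T), ρ.character (a ^ i * o)).re ≤
      ((p : ℝ) - 1) * Nat.card T * ((∑ i ∈ range p, ρ.character (a ^ i)).re / p) := by
  set Θ := univ.filter (fun o : G => o ∈ T)
  have hΘ : (Θ.card : ℕ) = Nat.card T := by rw [Nat.card_eq_fintype_card, Fintype.card_subtype]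
  have hpC : (p : ℂ) ≠ 0 := by exact_mod_cast hp.ne'
  have hTC : (Θ.card : ℂ) ≠ 0 := by rw [hΘ]; exact_mod_cast Nat.card_pos.ne'
  set Sa := ∑ i ∈ range p, ρ (a ^ i) with hSa
  set St := ∑ o ∈ Θ, ρ o with hSt
  set ea := (p : ℂ)⁻¹ • Sa
  set et := (Θ.card : ℂ)⁻¹ • St
  have hSa' : ∀ i : ℕ, ρ (a ^ i) * Sa = Sa := by
    intro i
    induction i with
    | zero => rw [pow_zero, map_one, one_mul]
    | succ k ih =>
      have h1 : ρ a * Sa = Sa := by
        have h := Finset.sum_range_succ' (fun i => ρ (a ^ i)) p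
        rw [Finset.sum_range_succ, pow_zero, ha] at h
        rw [hSa, Finset.mul_sum]
        refine Eq.trans (Finset.sum_congr rfl fun i _ => ?_) (add_right_cancel h).symm
        rw [← map_mul, ← pow_succ']
      rw [pow_succ, map_mul, mul_assoc, h1, ih]
  have hea : IsIdempotentElem ea := by
    show ea * ea = ea
    simp only [ea, smul_mul_smul_comm]
    conv_lhs => arg 2; rw [hSa, Finset.sum_mul, Finset.sum_congr rfl fun i _ => hSa' i,
      Finset.sum_const, Finset.card_range, ← Nat.cast_smul_eq_nsmul ℂ]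
    rw [smul_smul, mul_assoc, inv_mul_cancel₀ hpC, mul_one]
  have het : IsIdempotentElem et := by
    show et * et = et
    have h1 : ∀ o ∈ Θ, ρ o * St = St := fun o ho => by
      simp only [Θ, mem_filter, mem_univ, true_and] at ho
      rw [hSt, Finset.mul_sum]
      refine Finset.sum_equiv (Equiv.mulLeft o) (fun t => ?_) fun t _ => (map_mul ρ o t).symm
      simp only [Θ, mem_filter, mem_univ, true_and, Equiv.coe_mulLeft]
      exact (T.mul_mem_cancel_left ho).symm
    simp only [et, smul_mul_smul_comm]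
    conv_lhs => arg 2; rw [hSt, Finset.sum_mul, Finset.sum_congr rfl h1,
      Finset.sum_const, ← Nat.cast_smul_eq_nsmul ℂ]
    rw [smul_smul, mul_assoc, inv_mul_cancel₀ hTC, mul_one]
  have hcomm : Commute ea et := by
    refine ((Commute.sum_left _ _ _ fun i _ => Commute.sum_right _ _ _ fun o ho => ?_).smul_left
      _).smul_right _
    simp only [Θ, mem_filter, mem_univ, true_and] at ho
    exact ((hc o ho).pow_left i).map ρ
  have h1 := trace_mul_le hea het hcomm
  have h2 := trace_mul_le het hea hcomm.symm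
  rw [← hcomm.eq] at h2
  have htr : LinearMap.trace ℂ V (ea * et) = (p : ℂ)⁻¹ * (Θ.card : ℂ)⁻¹ *
      ∑ i ∈ range p, ∑ o ∈ Θ, ρ.character (a ^ i * o) := by
    simp only [ea, et, smul_mul_smul_comm, map_smul, smul_eq_mul, hSa, hSt, Finset.sum_mul_sum,
      map_sum, ← map_mul]
    rfl
  have htra : LinearMap.trace ℂ V ea = (p : ℂ)⁻¹ * ∑ i ∈ range p, ρ.character (a ^ i) := by
    simp only [ea, map_smul, smul_eq_mul, hSa, map_sum]
    rfl
  have htrt : LinearMap.trace ℂ V et = (Θ.card : ℂ)⁻¹ * ∑ o ∈ Θ, ρ.character o := by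
    simp only [et, map_smul, smul_eq_mul, hSt, map_sum]
    rfl
  rw [htr, htra] at h1
  rw [htr, htrt] at h2
  rw [← Finset.add_sum_erase _ _ (mem_range.2 hp)] at h1 h2
  simp only [pow_zero, one_mul] at h1 h2
  rw [← hΘ]
  set X := ∑ i ∈ (range p).erase 0, ∑ o ∈ Θ, ρ.character (a ^ i * o)
  set Y := ∑ o ∈ Θ, ρ.character o
  set Z := ∑ i ∈ range p, ρ.character (a ^ i)
  have hcast : (p : ℂ)⁻¹ * (Θ.card : ℂ)⁻¹ = (((p : ℝ)⁻¹ * (Θ.card : ℝ)⁻¹ : ℝ) : ℂ) := by push_cast; ring
  rw [hcast, Complex.re_ofReal_mul, Complex.add_re] at h1 h2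
  rw [show (p : ℂ)⁻¹ = (((p : ℝ)⁻¹ : ℝ) : ℂ) by push_cast; rfl, Complex.re_ofReal_mul] at h1
  rw [show (Θ.card : ℂ)⁻¹ = (((Θ.card : ℝ)⁻¹ : ℝ) : ℂ) by push_cast; rfl, Complex.re_ofReal_mul] at h2
  have hp0 : (0 : ℝ) < p := by exact_mod_cast hp
  have hT0 : (0 : ℝ) < Θ.card := by
    rw [hΘ]; exact_mod_cast Nat.card_pos
  field_simp at h1 h2 ⊢
  have hp1 : (0 : ℝ) ≤ (p : ℝ) - 1 := by
    have : (1 : ℝ) ≤ p := by exact_mod_cast hp
    linarith
  nlinarith [mul_le_mul_of_nonneg_left h1 hp1]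

end CfsgLib.TwoSolv
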