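import Cfsg.Agent.TwoSolv.Setup
import Cfsg.Agent.TwoSolv.Chars
import Cfsg.Agent.Char.Linear
import Cfsg.Agent.Char.Kernel
import Mathlib.RingTheory.IntegralDomain

/-!
The weights of a nontrivial irreducible character on a Sylow subgroup of order at most `p²` of a
minimal counterexample: their orbit under the normaliser bounds its index over the centraliser and
the drop of the fixed space.
-/

set_option autoImplicit false
set_option linter.unusedSectionVars false
set_option linter.style.haveILetI false

namespace CfsgLib.TwoSolv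

open Subgroup Finset CfsgLib.Char CfsgLib.Functor
open scoped ComplexConjugate Classical

universe u

variable {G : Type u} [Group G] [Fintype G] {p : ℕ} [hp : Fact p.Prime] (c : Ctx p G)
include c

theorem Ctx.card_eq_prime_of_injective (P : Sylow p G)
    (lam : (P : Subgroup G) →* ℂˣ) (hinj : Function.Injective lam) :
    Nat.card (P : Subgroup G) ≤ p := by
  haveI : IsCyclic (P : Subgroup G) :=
    isCyclic_of_injective_ringHom ((Units.coeHom ℂ).comp lam) (fun a b h => hinj (Units.ext h))
  obtain ⟨g, hg⟩ := IsCyclic.exists_generator (α := (P : Subgroup G))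
  rw [← orderOf_eq_card_of_forall_mem_zpowers hg]
  exact Nat.le_of_dvd hp.out.pos (orderOf_dvd_of_pow_eq_one (Subtype.ext (c.pow_eq_one P g.2)))

theorem Ctx.weight_bound (P : Sylow p G) (hcard : Nat.card (P : Subgroup G) ≤ p ^ 2) {χ : G → ℂ}
    (hχ : Cfsg.IsIrrCharacter G χ) (hne : χ ≠ fun _ => 1) :
    ∃ (h ix : ℕ), 2 ≤ h ∧ (p < Nat.card (P : Subgroup G) → 3 ≤ h) ∧ h ≤ ix ∧ ix ≤ h * (h - 1) ∧
      Nat.card (normalizer ((P : Subgroup G) : Set G)) =
        ix * Nat.card (centralizer ((P : Subgroup G) : Set G)) ∧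
      (∑ a ∈ univ.filter (fun a : G => a ∈ (P : Subgroup G)), χ a).re ≤
        (Nat.card (P : Subgroup G) : ℝ) * ((χ 1).re - h) := by
  haveI := c.simple
  set A := (P : Subgroup G)
  set N := normalizer (A : Set G)
  have hχc := IsIrrCharacter.isCharacter hχ
  have hχcl := IsIrrCharacter.isClassFunction hχ
  have hAc : ∀ a b : A, a * b = b * a := fun a b => Subtype.ext (c.sylow_commute P a.2 b.2)
  -- conjugation and its action on linear characters
  let cjH : N → (A →* A) := fun g => MonoidHom.mk'
    (fun a => ⟨(g : G)⁻¹ * a * g, (mem_normalizer_iff''.1 g.2 a).1 a.2⟩)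
    (fun a b => Subtype.ext (by simp only [Subgroup.coe_mul]; group))
  let act : N → (A →* ℂˣ) → (A →* ℂˣ) := fun g l => l.comp (cjH g)
  have hact_mul : ∀ g g' l, act g (act g' l) = act (g * g') l := fun g g' l => by
    refine MonoidHom.ext fun a => congrArg l (Subtype.ext ?_)
    show (g' : G)⁻¹ * ((g : G)⁻¹ * a * g) * g' = ((g * g' : N) : G)⁻¹ * a * ((g * g' : N) : G)
    simp only [Subgroup.coe_mul]
    group
  have hact_one : ∀ l, act 1 l = l := fun l => by
    refine MonoidHom.ext fun a => congrArg l (Subtype.ext ?_)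
    show (1 : G)⁻¹ * (a : G) * 1 = a
    group
  have hact_inj : ∀ g, Function.Injective (act g) := fun g l l' h => by
    have := congrArg (act g⁻¹) h
    rwa [hact_mul, hact_mul, inv_mul_cancel, hact_one, hact_one] at this
  -- multiplicities
  set m : (A → ℂ) → ℂ := fun ψ => Cfsg.classInner (fun a : A => χ a) ψ with hm
  have hres := IsCharacter.restrict hχc A
  have hmnat : ∀ ψ ∈ irrFinset A, ∃ k : ℕ, m ψ = k := fun ψ hψ =>
    IsCharacter.exists_classInner_eq_natCast hres (mem_irrFinset.1 hψ)
  have hm_act : ∀ g l, m (fun a => ((act g l) a : ℂ)) = m (fun a => (l a : ℂ)) := fun g l => by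
    simp only [hm, classInner_def]
    congr 1
    refine Fintype.sum_bijective (cjH g) ?_ _ _ fun a => ?_
    · refine Finite.injective_iff_bijective.1 fun a b hab => Subtype.ext ?_
      have : (g : G)⁻¹ * a * g = (g : G)⁻¹ * b * g := congrArg Subtype.val hab
      simpa using this
    · have h := hχcl a (g : G)⁻¹
      rw [inv_inv] at h
      show χ a * _ = χ ((g : G)⁻¹ * a * g) * _
      rw [h]
      rfl
  obtain ⟨lam, hlam1, hlamm⟩ :
      ∃ l : A →* ℂˣ, l ≠ 1 ∧ m (fun a => (l a : ℂ)) ≠ 0 := by
    by_contra hall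
    push Not at hall
    have h1 : ∀ a : A, χ a = χ 1 := by
      have hzero : ∀ ψ ∈ irrFinset A, ψ ≠ (fun _ => 1) → m ψ = 0 := fun ψ hψ hψ1 => by
        obtain ⟨l, rfl⟩ := IsCharacter.exists_hom (IsIrrCharacter.isCharacter (mem_irrFinset.1 hψ))
          (IsIrrCharacter.apply_one_eq_one (mem_irrFinset.1 hψ) hAc)
        exact hall l fun h => hψ1 (by rw [h]; rfl)
      have htriv : (fun _ : A => (1 : ℂ)) ∈ irrFinset A :=
        mem_irrFinset.2 (by simpa using isIrrCharacter_ofHom (1 : A →* ℂˣ))
      have hexp : ∀ a : A, χ a = m (fun _ => 1) := fun a => by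
        have := congrFun (eq_sum_irr (IsCharacter.isClassFunction hres)) a
        rw [Finset.sum_apply, Finset.sum_eq_single _ (fun ψ hψ hne' => by
          rw [Pi.smul_apply, show Cfsg.classInner (fun x : A => χ x) ψ = 0 from hzero ψ hψ hne',
            zero_smul]) (fun h => absurd htriv h)] at this
        simpa using this
      intro a
      rw [hexp a, ← hexp 1, OneMemClass.coe_one]
    rcases IsSimpleGroup.eq_bot_or_eq_top_of_normal _ (kerSubgroup_normal hχc) with h | h
    · exact c.sylow_ne_bot P (le_bot_iff.1 (h ▸ fun a ha => (mem_kerSubgroup hχc a).2 (h1 ⟨a, ha⟩)))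
    · have hall' : ∀ g, χ g = χ 1 := fun g =>
        (mem_kerSubgroup hχc g).1 (h ▸ mem_top g : g ∈ kerSubgroup hχc)
      obtain ⟨n, -, hn⟩ := IsIrrCharacter.exists_degree hχ
      have h2 := IsIrrCharacter.classInner_self hχ
      rw [classInner_def, Finset.sum_congr rfl fun g _ => by rw [hall' g, hn], Finset.sum_const,
        Finset.card_univ, nsmul_eq_mul, ← Nat.card_eq_fintype_card, Complex.conj_natCast,
        inv_mul_cancel_left₀ (Nat.cast_ne_zero.2 Nat.card_pos.ne')] at h2
      have h3 : n * n = 1 := by exact_mod_cast h2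
      exact hne (funext fun g => by rw [hall' g, hn, Nat.eq_one_of_mul_eq_one_left h3, Nat.cast_one])
  -- the orbit
  set O : Finset (A →* ℂˣ) := univ.image (fun g : N => act g lam) with hO
  have hOmem : ∀ g, act g lam ∈ O := fun g => Finset.mem_image_of_mem _ (Finset.mem_univ g)
  have hlamO : lam ∈ O := hact_one lam ▸ hOmem 1
  set C := (centralizer (A : Set G)).subgroupOf N
  have hfix : ∀ (w : N) l, w ∈ C → act w l = l := fun w l hw => by
    refine MonoidHom.ext fun a => congrArg l (Subtype.ext ?_)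
    show (w : G)⁻¹ * a * w = a
    rw [mul_assoc, mem_centralizer_iff.1 (mem_subgroupOf.1 hw) a a.2, inv_mul_cancel_left]
  -- a second weight which separates
  have hsep : ∃ μ ∈ O, (∀ a : A, lam a = 1 → μ a = 1 → a = 1) ∧
      (μ = lam → Nat.card A ≤ p) ∧ (μ ≠ lam → 3 ≤ O.card) ∧ 2 ≤ O.card := by
    by_cases hinj : Function.Injective lam
    · refine ⟨lam, hlamO, fun a ha _ => hinj (by rw [ha, map_one]),
        fun _ => c.card_eq_prime_of_injective P lam hinj, fun h => absurd rfl h, ?_⟩
      obtain ⟨g, hg, hgc⟩ := SetLike.not_le_iff_exists.1 (c.not_centralize P)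
      rw [mem_centralizer_iff] at hgc
      push Not at hgc
      obtain ⟨a, ha, hga⟩ := hgc
      refine Finset.one_lt_card.2 ⟨lam, hlamO, _, hOmem ⟨g, hg⟩, fun h => hga ?_⟩
      have h1 : (g⁻¹ * a * g : G) = a :=
        congrArg Subtype.val (hinj (DFunLike.congr_fun h (⟨a, ha⟩ : A))).symm
      calc a * g = g * (g⁻¹ * a * g) := by group
        _ = g * a := by rw [h1]
    have hker : lam.ker ≠ ⊥ := fun h => hinj ((MonoidHom.ker_eq_bot_iff lam).1 h)
    have hkp : ∀ l : A →* ℂˣ, l ≠ 1 → Nat.card l.ker ≤ p := fun l hl => by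
      obtain ⟨i, hi⟩ := IsPGroup.iff_card.1 (P.2.to_subgroup l.ker)
      rw [hi]
      by_contra hgt
      push Not at hgt
      have h2 : 2 ≤ i := by
        by_contra h
        exact absurd hgt (not_lt.2 ((Nat.pow_le_pow_right hp.out.pos (by omega : i ≤ 1)).trans_eq
          (pow_one p)))
      exact hl (MonoidHom.ker_eq_top_iff.1 (eq_top_of_le_card _
        (hcard.trans ((Nat.pow_le_pow_right hp.out.pos h2).trans_eq hi.symm))))
    have hact1 : ∀ g, act g lam ≠ 1 := fun g h => hlam1 (hact_inj g (h.trans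
      (show (1 : A →* ℂˣ) = act g 1 from MonoidHom.ext fun _ => rfl)))
    obtain ⟨g₀, hg₀⟩ : ∃ g : N, (act g lam).ker ≠ lam.ker := by
      by_contra hall
      push Not at hall
      have h1 : lam.ker.map A.subtype = A := by
        refine c.irreducible P (map_subtype_le _) (fun h => hker ?_) ?_
        · exact (Subgroup.map_eq_bot_iff_of_injective _ A.subtype_injective).1 h
        · refine SFT.le_normalizer_of_conj fun g hg x hx => ?_
          obtain ⟨a, ha, rfl⟩ := hx
          refine ⟨⟨g * a * g⁻¹, (mem_normalizer_iff.1 hg a).1 a.2⟩, ?_, rfl⟩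
          have h2 : a ∈ (act ⟨g⁻¹, inv_mem hg⟩ lam).ker → lam ⟨g * a * g⁻¹,
              (mem_normalizer_iff.1 hg a).1 a.2⟩ = 1 := fun h => by
            rw [← MonoidHom.mem_ker.1 h]
            exact congrArg lam (Subtype.ext (by simp [cjH]))
          exact MonoidHom.mem_ker.2 (h2 ((hall _).symm ▸ ha))
      refine hlam1 (MonoidHom.ker_eq_top_iff.1 (Subgroup.map_injective A.subtype_injective ?_))
      rw [h1, ← MonoidHom.range_eq_map, range_subtype]
    set μ := act g₀ lam
    have hμne : μ ≠ lam := fun h => hg₀ (by rw [h])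
    have hkl : 2 ≤ Nat.card lam.ker := by
      have := Subgroup.one_lt_card_iff_ne_bot _ |>.2 hker
      omega
    refine ⟨μ, hOmem g₀, fun a ha hb => ?_, fun h => absurd h hμne, fun _ => ?_,
      Finset.one_lt_card.2 ⟨μ, hOmem g₀, lam, hlamO, hμne⟩⟩
    · by_contra ha1
      have hinf : lam.ker ⊓ μ.ker ≠ ⊥ := fun h => ha1 (mem_bot.1 (h ▸ (⟨ha, hb⟩ : a ∈ lam.ker ⊓ μ.ker)))
      have hp' : ∀ K : Subgroup A, K ≠ ⊥ → p ≤ Nat.card K := fun K hK => by
        obtain ⟨i, hi⟩ := IsPGroup.iff_card.1 (P.2.to_subgroup K)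
        have h1 := Subgroup.one_lt_card_iff_ne_bot _ |>.2 hK
        rw [hi] at h1 ⊢
        exact Nat.le_self_pow (fun h0 => by simp [h0] at h1) p
      have e1 : lam.ker ⊓ μ.ker = lam.ker := eq_of_le_of_card_le' inf_le_left
        ((hkp lam hlam1).trans (hp' _ hinf))
      have e2 : lam.ker ⊓ μ.ker = μ.ker := eq_of_le_of_card_le' inf_le_right
        ((hkp μ (hact1 g₀)).trans (hp' _ hinf))
      exact hg₀ (e2.symm.trans e1)
    · by_contra h3
      have hO2 : O = {lam, μ} := (Finset.eq_of_subset_of_card_le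
        (Finset.insert_subset hlamO (Finset.singleton_subset_iff.2 (hOmem g₀)))
        (by rw [Finset.card_pair hμne.symm]; omega)).symm
      have hinv : ∀ g, act g (lam * μ) = lam * μ := fun g => by
        have h1 : act g lam ∈ O := hOmem g
        have h2 : act g μ ∈ O := by rw [hact_mul]; exact hOmem _
        have h4 : act g (lam * μ) = act g lam * act g μ := MonoidHom.ext fun a => rfl
        have h5 : act g lam ≠ act g μ := fun h => hμne (hact_inj g h).symm
        simp only [hO2, Finset.mem_insert, Finset.mem_singleton] at h1 h2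
        rcases h1 with e | e <;> rcases h2 with e' | e' <;> rw [h4, e, e']
        · exact absurd (e.trans e'.symm) h5
        · exact mul_comm μ lam
        · exact absurd (e.trans e'.symm) h5
      have h6 : (lam * μ).ker.map A.subtype = ⊥ ∨ (lam * μ).ker = ⊤ := by
        rcases eq_or_ne ((lam * μ).ker.map A.subtype) ⊥ with h | h
        · exact Or.inl h
        · refine Or.inr (Subgroup.map_injective A.subtype_injective ?_)
          rw [c.irreducible P (map_subtype_le _) h ?_, ← MonoidHom.range_eq_map, range_subtype]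
          refine SFT.le_normalizer_of_conj fun g hg x hx => ?_
          obtain ⟨a, ha, rfl⟩ := hx
          refine ⟨⟨g * a * g⁻¹, (mem_normalizer_iff.1 hg a).1 a.2⟩, ?_, rfl⟩
          refine MonoidHom.mem_ker.2 ?_
          rw [← hinv ⟨g, hg⟩]
          refine Eq.trans (congrArg (lam * μ) (Subtype.ext ?_)) (MonoidHom.mem_ker.1 ha)
          simp [cjH, mul_assoc]
      rcases h6 with h | h
      · have hinj2 : Function.Injective (lam * μ) := (MonoidHom.ker_eq_bot_iff _).1
          ((Subgroup.map_eq_bot_iff_of_injective _ A.subtype_injective).1 h)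
        have h7 := c.card_eq_prime_of_injective P _ hinj2
        have h8 : lam.ker = ⊤ := eq_top_of_le_card _ (by
          refine h7.trans ?_
          obtain ⟨i, hi⟩ := IsPGroup.iff_card.1 (P.2.to_subgroup lam.ker)
          rw [hi] at hkl ⊢
          exact Nat.le_self_pow (fun h0 => by simp [h0] at hkl) p)
        exact hlam1 (MonoidHom.ker_eq_top_iff.1 h8)
      · refine hg₀ (Subgroup.ext fun a => ?_)
        have : lam a * μ a = 1 := MonoidHom.mem_ker.1 (h ▸ mem_top a : a ∈ (lam * μ).ker)
        rw [MonoidHom.mem_ker, MonoidHom.mem_ker, eq_inv_of_mul_eq_one_right this, inv_eq_one]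
  obtain ⟨μ, hμ, hker, hμA, hμ3, h2⟩ := hsep
  refine ⟨O.card, C.index, h2, fun hbig => hμ3 fun h => absurd (hμA h) (not_le.2 hbig), ?_, ?_, ?_, ?_⟩
  · refine (Finset.card_le_card (t := (univ : Finset (N ⧸ C)).image fun q => act q.out lam) ?_).trans
      (Finset.card_image_le.trans (le_of_eq ?_))
    · intro l hl
      obtain ⟨g, -, rfl⟩ := Finset.mem_image.1 hl
      obtain ⟨w, hw⟩ := QuotientGroup.mk_out_eq_mul C g
      refine Finset.mem_image.2 ⟨QuotientGroup.mk g, Finset.mem_univ _, ?_⟩
      rw [hw, ← hact_mul, hfix _ _ w.2]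
    · rw [Finset.card_univ, Subgroup.index, Nat.card_eq_fintype_card]
  · obtain ⟨g₁, -, hg₁⟩ := Finset.mem_image.1 hμ
    have hinj : ∀ q q' : N ⧸ C, act q.out lam = act q'.out lam → act q.out μ = act q'.out μ →
        q = q' := fun q q' e1 e2 => by
      rw [← QuotientGroup.out_eq' q, ← QuotientGroup.out_eq' q', QuotientGroup.eq]
      have f1 : act (q.out⁻¹ * q'.out) lam = lam := by
        rw [← hact_mul, ← e1, hact_mul, inv_mul_cancel, hact_one]
      have f2 : act (q.out⁻¹ * q'.out) μ = μ := by
        rw [← hact_mul, ← e2, hact_mul, inv_mul_cancel, hact_one]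
      set w : N := q.out⁻¹ * q'.out
      refine mem_subgroupOf.2 (mem_centralizer_iff.2 fun a ha => ?_)
      have h3 : cjH w ⟨a, ha⟩ * (⟨a, ha⟩ : A)⁻¹ = 1 := by
        refine hker _ ?_ ?_
        · rw [map_mul, map_inv, mul_inv_eq_one]; exact DFunLike.congr_fun f1 _
        · rw [map_mul, map_inv, mul_inv_eq_one]; exact DFunLike.congr_fun f2 _
      have h4 : (w : G)⁻¹ * a * w = a := congrArg Subtype.val (mul_inv_eq_one.1 h3)
      calc a * w = w * ((w : G)⁻¹ * a * w) := by group
        _ = w * a := by rw [h4]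
    rw [Subgroup.index, Nat.card_eq_fintype_card, ← Finset.card_univ]
    have hμmem : ∀ g, act g μ ∈ O := fun g => by rw [← hg₁, hact_mul]; exact hOmem _
    by_cases he : μ = lam
    · refine (Finset.card_le_card_of_injOn (fun q => act q.out lam) (fun q _ => hOmem _)
        fun q _ q' _ e => hinj q q' e (by rw [he]; exact e)).trans ?_
      exact Nat.le_mul_of_pos_right _ (by omega)
    · refine (Finset.card_le_card_of_injOn (fun q => (act q.out lam, act q.out μ))
        (t := O.offDiag) (fun q _ => ?_) fun q _ q' _ e =>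
          hinj q q' (congrArg Prod.fst e) (congrArg Prod.snd e)).trans ?_
      · exact Finset.mem_coe.2 (Finset.mem_offDiag.2
          ⟨hOmem _, hμmem _, fun h => he (hact_inj _ h).symm⟩)
      · rw [Finset.offDiag_card, Nat.mul_sub, mul_one]
  · rw [← Subgroup.index_mul_card C, Nat.card_congr
      (subgroupOfEquivOfLe (centralizer_le_normalizer (A : Set G))).toEquiv]
  · -- the trivial weight
    set triv : A → ℂ := fun _ => 1
    have htriv : triv ∈ irrFinset A :=
      mem_irrFinset.2 (by simpa [triv] using isIrrCharacter_ofHom (1 : A →* ℂˣ))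
    let F : (A →* ℂˣ) → (A → ℂ) := fun l a => (l a : ℂ)
    have hFinj : Function.Injective F := fun l l' h =>
      MonoidHom.ext fun a => Units.ext (congrFun h a)
    have hsum : (∑ a ∈ univ.filter (fun a : G => a ∈ A), χ a) = (Nat.card A : ℂ) * m triv := by
      simp only [hm, classInner_def, triv, map_one, mul_one]
      rw [mul_inv_cancel_left₀ (Nat.cast_ne_zero.2 Nat.card_pos.ne')]
      exact Finset.sum_subtype _ (fun a => by simp) χ
    have hdeg : χ 1 = ∑ ψ ∈ irrFinset A, m ψ := by
      have := congrFun (eq_sum_irr (IsCharacter.isClassFunction hres)) (1 : A)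
      rw [OneMemClass.coe_one, Finset.sum_apply] at this
      rw [this]
      refine Finset.sum_congr rfl fun ψ hψ => ?_
      rw [Pi.smul_apply, IsIrrCharacter.apply_one_eq_one (mem_irrFinset.1 hψ) hAc, smul_eq_mul,
        mul_one]
    have hnn : ∀ ψ ∈ irrFinset A, 0 ≤ (m ψ).re := fun ψ hψ => by
      obtain ⟨k, hk⟩ := hmnat ψ hψ
      rw [hk, Complex.natCast_re]
      exact Nat.cast_nonneg k
    have hsub : insert triv (O.image F) ⊆ irrFinset A := by
      refine Finset.insert_subset htriv fun ψ hψ => ?_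
      obtain ⟨l, -, rfl⟩ := Finset.mem_image.1 hψ
      exact mem_irrFinset.2 (isIrrCharacter_ofHom l)
    have hnot : triv ∉ O.image F := fun h => by
      obtain ⟨l, hl, e⟩ := Finset.mem_image.1 h
      obtain ⟨g, -, rfl⟩ := Finset.mem_image.1 hl
      refine hlam1 (hact_inj g ?_)
      refine hFinj (e.trans ?_)
      funext a
      simp [F, act, triv]
    have hone : ∀ ψ ∈ O.image F, (1 : ℝ) ≤ (m ψ).re := fun ψ hψ => by
      obtain ⟨l, hl, rfl⟩ := Finset.mem_image.1 hψ
      obtain ⟨k, hk⟩ := hmnat _ (hsub (Finset.mem_insert_of_mem hψ))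
      rw [hk, Complex.natCast_re, Nat.one_le_cast]
      obtain ⟨g, -, rfl⟩ := Finset.mem_image.1 hl
      rcases k with _ | k
      · refine absurd ?_ hlamm
        rw [← hm_act g lam, hk, Nat.cast_zero]
      · omega
    have hbound : (m triv).re + O.card ≤ (χ 1).re := by
      rw [hdeg, Complex.re_sum]
      refine le_trans ?_ (Finset.sum_le_sum_of_subset_of_nonneg hsub fun ψ hψ _ => hnn ψ hψ)
      rw [Finset.sum_insert hnot]
      have h4 : (O.card : ℝ) ≤ ∑ ψ ∈ O.image F, (m ψ).re := by
        rw [← Finset.card_image_of_injective O hFinj]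
        simpa using Finset.sum_le_sum hone
      linarith
    rw [hsum, show (Nat.card A : ℂ) = ((Nat.card A : ℝ) : ℂ) by simp, Complex.re_ofReal_mul]
    exact mul_le_mul_of_nonneg_left (by linarith) (Nat.cast_nonneg _)

end CfsgLib.TwoSolv
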