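import Cfsg.Agent.TwoSolv.Count
import Cfsg.Agent.TwoSolv.Weights
import Cfsg.Agent.TwoSolv.HighRank
import Cfsg.Agent.Char.Burnside

/-!
Finite groups in which any two elements generate a solvable subgroup are solvable.
-/

set_option autoImplicit false
set_option linter.unusedSectionVars false
set_option linter.style.haveILetI false

namespace CfsgLib.TwoSolv

open Subgroup Finset CfsgLib.Char
open scoped ComplexConjugate Classical

universe u

/-- The numerical contradiction. -/
theorem numeric_false {p q ix h n Ψ : ℝ} (hp : 5 ≤ p) (hq : p ≤ q) (hn : 0 < n)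
    (hh : 1 ≤ h) (hix : ix ≤ h * (h - 1)) (hΨ : 5 / 9 * n < Ψ)
    (hsq : Ψ ^ 2 ≤ ix * q / (q - 1) - 1)
    (hw : (p - 1) * q * h ≤ p * (q - 1) * (n - Ψ)) : False := by
  have hN : 0 < q - 1 := by linarith
  have hΨ0 : 0 < Ψ := by nlinarith
  have h1 : (p - 1) * q * h < p * (q - 1) * (4 / 5 * Ψ) :=
    hw.trans_lt (mul_lt_mul_of_pos_left (by linarith) (mul_pos (by linarith) hN))
  have h45 : 4 / 5 * p ≤ p - 1 := by linarith
  have h3 : q * h < (q - 1) * Ψ := by
    have : 4 / 5 * p * (q * h) < 4 / 5 * p * ((q - 1) * Ψ) := by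
      calc 4 / 5 * p * (q * h) ≤ (p - 1) * (q * h) :=
            mul_le_mul_of_nonneg_right h45 (mul_nonneg (by linarith) (by linarith))
        _ < _ := by linarith [h1]
    exact lt_of_mul_lt_mul_left this (by linarith)
  have h4 : ix * q / (q - 1) - 1 < (q * h / (q - 1)) ^ 2 := by
    have e : (q * h / (q - 1)) ^ 2 = (q / (q - 1)) * (q / (q - 1)) * h ^ 2 := by ring
    have e2 : ix * q / (q - 1) = (q / (q - 1)) * ix := by ring
    have hc : 1 ≤ q / (q - 1) := by rw [le_div_iff₀ hN]; linarith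
    rw [e, e2]
    have h5 : (q / (q - 1)) * ix ≤ (q / (q - 1)) * h ^ 2 :=
      mul_le_mul_of_nonneg_left (by nlinarith) (by linarith)
    have h6 : (q / (q - 1)) * h ^ 2 ≤ (q / (q - 1)) * (q / (q - 1)) * h ^ 2 :=
      mul_le_mul_of_nonneg_right (le_mul_of_one_le_left (by linarith) hc) (sq_nonneg h)
    linarith
  have h7 : (q * h / (q - 1)) ^ 2 ≤ Ψ ^ 2 := by
    refine pow_le_pow_left₀ (div_nonneg (mul_nonneg (by linarith) (by linarith)) hN.le) ?_ 2
    rw [div_le_iff₀ hN]
    linarith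
  linarith

/-- The value of `|G|/|S|` is large enough. -/
theorem numeric_low {p q ix B : ℝ} (hp : 5 ≤ p) (hq : q = p ∨ 3 ≤ ix) (hpq : p ≤ q) (hix : 2 ≤ ix)
    (hB : B = ix * q / (q - 1)) : 4 * (p - 1) < (4 * p - 13) * B := by
  have hc : 0 < 4 * p - 13 := by linarith
  rcases hq with h | h
  · subst h
    have h1 : 2 * q / (q - 1) ≤ B := by
      rw [hB]; exact div_le_div_of_nonneg_right (by nlinarith) (by linarith)
    have h2 : 4 * (q - 1) < (4 * q - 13) * (2 * q / (q - 1)) := by
      rw [mul_div_assoc', lt_div_iff₀ (by linarith)]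
      nlinarith
    linarith [mul_le_mul_of_nonneg_left h1 hc.le]
  · have h1 : 3 ≤ B := by
      rw [hB, le_div_iff₀ (by linarith)]
      nlinarith
    linarith [mul_le_mul_of_nonneg_left h1 hc.le]

/-- The average ratio is large. -/
theorem numeric_ratio {p B : ℝ} (hp : 5 ≤ p) (hB : 4 * (p - 1) < (4 * p - 13) * B)
    (h : (p - 2) / (p - 1) * B - 1 ≤ 5 / 9 * (B - 1)) : False := by
  have h4 : (p - 2) * B ≤ (1 + 5 / 9 * (B - 1)) * (p - 1) := by
    rw [← div_le_iff₀ (by linarith : (0 : ℝ) < p - 1)]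
    calc (p - 2) * B / (p - 1) = (p - 2) / (p - 1) * B := by ring
      _ ≤ _ := by linarith
  nlinarith

/-- The weight inequality. -/
theorem numeric_weight {p q n h D s Ψ : ℝ} (hp : 5 ≤ p) (hD : p * D = (q - 1) * n + (p - 1) * s)
    (hΨ : (q - 1) * Ψ ≤ D) (hs : n + s ≤ q * (n - h)) :
    (p - 1) * q * h ≤ p * (q - 1) * (n - Ψ) := by
  have h1 := mul_le_mul_of_nonneg_left hΨ (by linarith : (0 : ℝ) ≤ p)
  have h2 := mul_le_mul_of_nonneg_left hs (by linarith : (0 : ℝ) ≤ p - 1)
  rw [hD] at h1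
  linarith

variable {G : Type u} [Group G] [Fintype G] {p : ℕ} [hp : Fact p.Prime] (c : Ctx p G)
include c

set_option maxHeartbeats 2000000 in
theorem Ctx.false : False := by
  obtain ⟨P⟩ := (inferInstance : Nonempty (Sylow p G))
  set A := (P : Subgroup G)
  obtain ⟨j, hj⟩ := IsPGroup.iff_card.1 P.2
  have hj3 : j < 3 := by
    have := c.card_lt P
    rw [hj] at this
    exact (Nat.pow_lt_pow_iff_right hp.out.one_lt).1 this
  have hj1 : 1 ≤ j := by
    by_contra h
    exact c.sylow_ne_bot P (eq_bot_of_card_eq _ (by rw [hj, show j = 0 by omega, pow_zero]))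
  set q := Nat.card A with hqdef
  have hpq : p ≤ q := hj.ge.trans' (Nat.le_self_pow (by omega) p)
  have hq2 : q ≤ p ^ 2 := hj.le.trans (Nat.pow_le_pow_right hp.out.pos (by omega))
  set S := Sfin G p
  set d := sylD P
  set np := Nat.card (Sylow p G)
  set E := univ.filter fun a : G => a ∈ A ∧ a ≠ 1 with hE
  have hAf : (univ.filter fun a : G => a ∈ A).card = q := by
    rw [hqdef, Nat.card_eq_fintype_card, Fintype.card_subtype]
  have hEins : univ.filter (fun a : G => a ∈ A) = insert 1 E := by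
    ext a
    simp only [hE, mem_filter, mem_univ, true_and, Finset.mem_insert]
    constructor
    · intro h; exact (em (a = 1)).imp_right fun h1 => ⟨h, h1⟩
    · rintro (rfl | h)
      exacts [one_mem _, h.1]
  have h1E : (1 : G) ∉ E := by simp [hE]
  have hEc : (E.card : ℝ) = (q : ℝ) - 1 := by
    rw [eq_sub_iff_add_eq, ← Nat.cast_one, ← Nat.cast_add, ← Finset.card_insert_of_notMem h1E,
      ← hEins, hAf]
  have hcardS : (S.card : ℝ) = (d : ℝ) * np * ((q : ℝ) - 1) := by
    have := c.sum_Sfin_pp P (fun _ => (1 : ℝ)) (fun _ _ => rfl)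
    rw [Finset.sum_const, Finset.sum_const, nsmul_one, nsmul_one] at this
    exact this.trans (congrArg (fun x : ℝ => (d : ℝ) * np * x) hEc)
  have hp5 : (5 : ℝ) ≤ p := by exact_mod_cast c.hp5
  have hqR : (p : ℝ) ≤ q := by exact_mod_cast hpq
  have hd0 : (0 : ℝ) < d := Nat.cast_pos.2 Nat.card_pos
  have hnp0 : (0 : ℝ) < np := Nat.cast_pos.2 Nat.card_pos
  have hS0 : (0 : ℝ) < S.card := by
    rw [hcardS]; exact mul_pos (mul_pos hd0 hnp0) (by linarith)
  have hSconj : ∀ g ∈ S, ∀ e : G, e * g * e⁻¹ ∈ S := fun g hg e =>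
    mem_Sfin.2 ((mem_Sfin.1 hg).conj c e)
  have hFreal : ∀ χ ∈ irrFinset G, (∑ g ∈ S, χ g).im = 0 := fun χ hχ => by
    rw [← Complex.conj_eq_iff_im, map_sum]
    refine Finset.sum_bij' (fun g _ => g⁻¹) (fun g _ => g⁻¹)
      (fun g hg => mem_Sfin.2 ((mem_Sfin.1 hg).inv c)) (fun g hg => mem_Sfin.2 ((mem_Sfin.1 hg).inv c))
      (fun g _ => inv_inv g) (fun g _ => inv_inv g) fun g _ => ?_
    exact (IsIrrCharacter.apply_inv (mem_irrFinset.1 hχ) g).symm
  let Ψ : (G → ℂ) → ℝ := fun χ => (∑ g ∈ S, χ g).re / S.card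
  let deg : (G → ℂ) → ℝ := fun χ => (χ 1).re
  have hFc : ∀ χ ∈ irrFinset G, (∑ g ∈ S, χ g) = ((Ψ χ * S.card : ℝ) : ℂ) := fun χ hχ => by
    refine Complex.ext ?_ ?_
    · rw [Complex.ofReal_re]; simp only [Ψ]; field_simp
    · rw [Complex.ofReal_im, hFreal χ hχ]
  have hdeg : ∀ χ ∈ irrFinset G, χ 1 = ((deg χ : ℝ) : ℂ) ∧ 0 < deg χ := fun χ hχ => by
    obtain ⟨n, hn0, hn⟩ := IsIrrCharacter.exists_degree (mem_irrFinset.1 hχ)
    simp only [deg, hn, Complex.natCast_re]
    exact ⟨by push_cast; rfl, Nat.cast_pos.2 hn0⟩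
  set gG := (Nat.card G : ℝ)
  set B := gG / S.card with hB
  have hm2 : ∑ χ ∈ irrFinset G, Ψ χ ^ 2 = B := by
    have h := sum_sq_sums hSconj
    rw [Finset.sum_congr rfl fun χ hχ => by rw [hFc χ hχ, Complex.conj_ofReal]] at h
    have h' : ∑ χ ∈ irrFinset G, Ψ χ * S.card * (Ψ χ * S.card) = gG * S.card := by
      have := congrArg Complex.re h
      simpa [Complex.re_sum, gG] using this
    rw [hB, eq_div_iff hS0.ne', Finset.sum_mul]
    refine mul_right_cancel₀ hS0.ne' ?_
    rw [Finset.sum_mul, ← h']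
    exact Finset.sum_congr rfl fun χ _ => by ring
  set cnt := ((S ×ˢ S).filter fun x => x.1 * x.2 ∈ S).card
  have hm3 : (S.card : ℝ) ^ 3 * ∑ χ ∈ irrFinset G, Ψ χ ^ 3 / deg χ = gG * cnt := by
    have h := sum_pairs hSconj
    rw [Finset.sum_congr rfl fun χ hχ => by
      rw [hFc χ hχ, (hdeg χ hχ).1, Complex.conj_ofReal, ← Complex.ofReal_mul, ← Complex.ofReal_div,
        ← Complex.ofReal_mul]] at h
    rw [← Complex.ofReal_sum] at h
    have h' := congrArg Complex.re h
    rw [Complex.ofReal_re] at h'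
    rw [show gG * cnt = ((Nat.card G : ℂ) * (cnt : ℂ)).re by simp [gG], h', Finset.mul_sum]
    exact Finset.sum_congr rfl fun χ _ => by ring
  have hcnt : ((p : ℝ) - 2) * (S.card : ℝ) ^ 2 ≤ ((p : ℝ) - 1) * cnt := by
    have h := c.pairs_le P hq2
    have hf : ((Sfin G p ×ˢ Sfin G p).filter fun x => InS p (x.1 * x.2)).card = cnt :=
      congrArg Finset.card (Finset.filter_congr fun x _ => mem_Sfin.symm)
    rw [hf] at h
    have h' : ((((p - 2) * S.card ^ 2 : ℕ)) : ℝ) ≤ (((p - 1) * cnt : ℕ) : ℝ) := by exact_mod_cast h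
    have h2 : 2 ≤ p := hp.out.two_le
    push_cast [Nat.cast_sub h2, Nat.cast_sub hp.out.one_le] at h'
    exact h'
  -- the trivial character
  set triv : G → ℂ := fun _ => 1
  have htriv : triv ∈ irrFinset G :=
    mem_irrFinset.2 (by simpa [triv] using isIrrCharacter_ofHom (1 : G →* ℂˣ))
  have hΨ1 : Ψ triv = 1 := by
    simp only [Ψ, triv, Finset.sum_const, nsmul_one, Complex.natCast_re]
    field_simp
  have hdeg1 : deg triv = 1 := by simp [deg, triv]
  have hrest2 : ∑ χ ∈ (irrFinset G).erase triv, Ψ χ ^ 2 = B - 1 := by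
    rw [← hm2, ← Finset.sum_erase_add _ _ htriv, hΨ1]; ring
  have hrest3 : (((p : ℝ) - 2) / ((p : ℝ) - 1)) * B - 1 ≤
      ∑ χ ∈ (irrFinset G).erase triv, Ψ χ ^ 3 / deg χ := by
    have h : (∑ χ ∈ (irrFinset G).erase triv, Ψ χ ^ 3 / deg χ) + 1 =
        ∑ χ ∈ irrFinset G, Ψ χ ^ 3 / deg χ := by
      rw [← Finset.sum_erase_add _ _ htriv, hΨ1, hdeg1]; ring
    have hsum : ∑ χ ∈ irrFinset G, Ψ χ ^ 3 / deg χ = B * (cnt / (S.card : ℝ) ^ 2) := by
      have h3S : (0 : ℝ) < (S.card : ℝ) ^ 3 := pow_pos hS0 3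
      rw [show ∑ χ ∈ irrFinset G, Ψ χ ^ 3 / deg χ = gG * cnt / (S.card : ℝ) ^ 3 by
        rw [eq_div_iff h3S.ne', mul_comm]; exact hm3, hB]
      ring
    have hB0 : 0 ≤ B := div_nonneg (Nat.cast_nonneg _) hS0.le
    have : ((p : ℝ) - 2) / ((p : ℝ) - 1) ≤ cnt / (S.card : ℝ) ^ 2 := by
      rw [div_le_div_iff₀ (by linarith) (pow_pos hS0 2)]; linarith
    have := mul_le_mul_of_nonneg_left this hB0
    linarith
  have hNG : gG = np * (Nat.card (normalizer (A : Set G)) : ℝ) := by
    simp only [gG, np]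
    rw [Sylow.card_eq_index_normalizer P, ← Nat.cast_mul]
    exact congrArg Nat.cast (Subgroup.index_mul_card (normalizer ((P : Subgroup G) : Set G))).symm
  have hC : Nat.card (centralizer (A : Set G)) = q * d := c.centralizer_sylow_card P
  have hBval : ∀ ix : ℕ, Nat.card (normalizer (A : Set G)) = ix * Nat.card (centralizer (A : Set G)) →
      B = ix * q / ((q : ℝ) - 1) := fun ix hix => by
    rw [hB, hNG, hix, hC, hcardS]
    push_cast
    field_simp
  have hwb := fun χ (hχ : χ ∈ (irrFinset G).erase triv) =>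
    c.weight_bound P hq2 (mem_irrFinset.1 (Finset.mem_erase.1 hχ).2) (Finset.mem_erase.1 hχ).1
  -- some nontrivial character exists
  obtain ⟨χ₁, hχ₁⟩ : ((irrFinset G).erase triv).Nonempty := by
    by_contra h
    rw [Finset.not_nonempty_iff_eq_empty] at h
    have h1 : irrFinset G = {triv} := by
      rw [← Finset.insert_erase htriv, h]
      rfl
    obtain ⟨a, ha, ha1⟩ := A.bot_or_exists_ne_one.resolve_left (c.sylow_ne_bot P)
    exact ha1 (isConj_one_left.1 ((isConj_iff_irr_eq a 1).2 fun χ hχ => by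
      have : χ ∈ irrFinset G := mem_irrFinset.2 hχ
      rw [h1, Finset.mem_singleton] at this
      rw [this]))
  obtain ⟨h₁, ix, h2, h3, hle, -, hix, -⟩ := hwb χ₁ hχ₁
  have hBix := hBval ix hix
  have hix2 : (2 : ℝ) ≤ ix := by exact_mod_cast h2.trans hle
  have hq3 : (q : ℝ) = p ∨ (3 : ℝ) ≤ ix := by
    by_cases hqp : q = p
    · exact Or.inl (by exact_mod_cast hqp)
    · exact Or.inr (by exact_mod_cast (h3 (lt_of_le_of_ne hpq (Ne.symm hqp))).trans hle)
  have hBlow := numeric_low hp5 hq3 hqR hix2 hBix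
  -- a character with large ratio
  obtain ⟨χ, hχ, hΨχ⟩ : ∃ χ ∈ (irrFinset G).erase triv, 5 / 9 * deg χ < Ψ χ := by
    by_contra hall
    push Not at hall
    have h1 : ∑ χ ∈ (irrFinset G).erase triv, Ψ χ ^ 3 / deg χ ≤
        ∑ χ ∈ (irrFinset G).erase triv, 5 / 9 * Ψ χ ^ 2 := by
      refine Finset.sum_le_sum fun χ hχ => ?_
      rw [div_le_iff₀ (hdeg χ (Finset.mem_of_mem_erase hχ)).2]
      linarith [mul_le_mul_of_nonneg_left (hall χ hχ) (sq_nonneg (Ψ χ))]
    rw [← Finset.mul_sum, hrest2] at h1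
    exact numeric_ratio hp5 hBlow (hrest3.trans h1)
  obtain ⟨h, ix', h2', -, -, hixh, hix', hm⟩ := hwb χ hχ
  have hχirr := Finset.mem_of_mem_erase hχ
  have hsq : Ψ χ ^ 2 ≤ B - 1 :=
    hrest2 ▸ Finset.single_le_sum (f := fun χ => Ψ χ ^ 2) (fun _ _ => sq_nonneg _) hχ
  rw [hBval ix' hix'] at hsq
  -- fixed spaces
  obtain ⟨n, ρ, -, hρχ⟩ := id (mem_irrFinset.1 hχirr)
  set I := (Finset.range p).erase 0
  have hI : ∀ i ∈ I, ¬ p ∣ i := fun i hi hd => by
    simp only [I, Finset.mem_erase, Finset.mem_range] at hi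
    exact absurd (Nat.le_of_dvd (Nat.pos_of_ne_zero hi.1) hd) (by omega)
  have hIc : (I.card : ℝ) = (p : ℝ) - 1 := by
    rw [Finset.card_erase_of_mem (Finset.mem_range.2 hp.out.pos), Finset.card_range,
      Nat.cast_sub hp.out.one_le, Nat.cast_one]
  let dd : G → ℝ := fun a => (∑ i ∈ range p, χ (a ^ i)).re / p
  have hdd : ∀ g e : G, dd (e * g * e⁻¹) = dd g := fun g e => by
    simp only [dd, conj_pow]
    congr 2
    exact Finset.sum_congr rfl fun i _ =>
      IsIrrCharacter.isClassFunction (mem_irrFinset.1 hχirr) _ _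
  have hfix : (∑ g ∈ S, χ g).re ≤ ∑ g ∈ S, dd (pp p g) := by
    have h1 : ((p : ℝ) - 1) * (∑ g ∈ S, χ g).re =
        ∑ g ∈ S, (∑ i ∈ I, χ (pp p g ^ i * pq p g)).re := by
      conv_rhs => rw [← Complex.re_sum, Finset.sum_comm, Complex.re_sum]
      rw [← hIc, ← nsmul_eq_mul, ← Finset.sum_const]
      refine Finset.sum_congr rfl fun i hi => ?_
      rw [← c.sum_twist (hI i hi) χ]
      exact congrArg Complex.re (Finset.sum_congr rfl fun g _ => by rw [pow_twistExp])
    have h2 : ∑ g ∈ S, (∑ i ∈ I, χ (pp p g ^ i * pq p g)).re ≤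
        ∑ g ∈ S, ((p : ℝ) - 1) * dd (pp p g) := by
      rw [sum_Sfin (fun a o => (∑ i ∈ I, χ (a ^ i * o)).re),
        sum_Sfin (fun a _ => ((p : ℝ) - 1) * dd a)]
      refine Finset.sum_le_sum fun a ha => ?_
      simp only [mem_filter, mem_univ, true_and] at ha
      rw [← Complex.re_sum, Finset.sum_comm, Finset.sum_const, nsmul_eq_mul]
      have hb := sum_coset_le hp.out.pos ρ (theta p a) (c.pow_eq_one_of_isPEl ha.1)
        (fun t ht => (mem_centralizer_singleton_iff.1 (c.theta_le a ht)).symm)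
      rw [hρχ] at hb
      have hcardθ : ((univ.filter fun o : G => o ∈ theta p a).card : ℝ) = Nat.card (theta p a) := by
        rw [Nat.card_eq_fintype_card, Fintype.card_subtype]
      rw [hcardθ]
      refine hb.trans_eq ?_
      simp only [dd]
      ring
    rw [← Finset.mul_sum, ← h1] at h2
    exact le_of_mul_le_mul_left h2 (by linarith)
  rw [c.sum_Sfin_pp P dd hdd] at hfix
  have hEsum : (p : ℝ) * ∑ a ∈ E, dd a =
      (E.card : ℝ) * deg χ + ((p : ℝ) - 1) * (∑ a ∈ E, χ a).re := by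
    have hterm : ∀ i ∈ I, ∑ a ∈ E, χ (a ^ i) = ∑ a ∈ E, χ a := fun i hi => by
      have hmaps : ∀ a ∈ E, a ^ i ∈ E := fun a ha => by
        simp only [hE, mem_filter, mem_univ, true_and] at ha ⊢
        exact ⟨pow_mem ha.1 i, fun h1 => hI i hi
          (c.orderOf_eq (isPEl_of_mem P.2 ha.1) ha.2 ▸ orderOf_dvd_of_pow_eq_one h1)⟩
      have hinj : Set.InjOn (fun a : G => a ^ i) (E : Set G) := fun a ha b hb e => by
        simp only [hE, Finset.coe_filter, mem_univ, true_and, Set.mem_setOf_eq] at ha hb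
        by_contra hne
        have hc : Commute a b⁻¹ := (show Commute a b from c.sylow_commute P ha.1 hb.1).inv_right
        have h1 : (a * b⁻¹) ^ i = 1 := by
          rw [hc.mul_pow, inv_pow]; simp only at e; rw [e, mul_inv_cancel]
        exact hI i hi (c.orderOf_eq (isPEl_of_mem P.2 (mul_mem ha.1 (inv_mem hb.1)))
          (fun h => hne (mul_inv_eq_one.1 h)) ▸ orderOf_dvd_of_pow_eq_one h1)
      rw [← Finset.sum_image hinj]
      exact Finset.sum_congr (Finset.eq_of_subset_of_card_le (Finset.image_subset_iff.2 hmaps)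
        (Finset.card_image_of_injOn hinj).ge) fun _ _ => rfl
    simp only [dd]
    rw [← Finset.sum_div, mul_div_cancel₀ _ (by linarith : (p : ℝ) ≠ 0), ← Complex.re_sum,
      Finset.sum_comm, ← Finset.add_sum_erase _ _ (Finset.mem_range.2 hp.out.pos),
      Finset.sum_congr rfl hterm]
    simp only [pow_zero, Finset.sum_const, nsmul_eq_mul, deg]
    rw [← hIc]
    simp [Complex.add_re, I]
  rw [hEins, Finset.sum_insert h1E, Complex.add_re] at hm
  have hΨN : ((q : ℝ) - 1) * Ψ χ ≤ ∑ a ∈ E, dd a := by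
    simp only [Ψ]
    rw [mul_div_assoc', div_le_iff₀ hS0, hcardS]
    refine (mul_le_mul_of_nonneg_left hfix (by linarith : (0:ℝ) ≤ (q : ℝ) - 1)).trans (le_of_eq ?_)
    ring
  refine numeric_false (p := p) (q := q) (ix := ix') (h := h) (n := deg χ) (Ψ := Ψ χ) hp5 hqR
    (hdeg χ hχirr).2 (by exact_mod_cast (by omega : 1 ≤ h)) ?_ hΨχ hsq ?_
  · have : ((ix' : ℕ) : ℝ) ≤ ((h * (h - 1) : ℕ) : ℝ) := by exact_mod_cast hixh
    rwa [Nat.cast_mul, Nat.cast_sub (by omega), Nat.cast_one] at this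
  · rw [hEc] at hEsum
    exact numeric_weight hp5 hEsum hΨN hm

omit c in
/-- A finite group in which any two elements generate a solvable subgroup is solvable. -/
theorem solvable_of_pairs : ∀ (n : ℕ) (G : Type u) [Group G] [Finite G], Nat.card G = n →
    (∀ a b : G, Group.IsSolvable (closure ({a, b} : Set G))) → Group.IsSolvable G := by
  intro n
  induction n using Nat.strong_induction_on with
  | _ n ih =>
    intro G _ _ hn h2
    have hsub : ∀ H : Subgroup G, H ≠ ⊤ → Group.IsSolvable H := fun H hH => by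
      refine ih _ (hn ▸ Solvable.card_lt_of_ne_top hH) H rfl fun a b => ?_
      haveI := h2 a b
      have he : (closure ({a, b} : Set H)).map H.subtype = closure ({(a : G), (b : G)} : Set G) := by
        rw [MonoidHom.map_closure, Set.image_pair]; rfl
      let f := ((closure ({a, b} : Set H)).equivMapOfInjective H.subtype H.subtype_injective).trans
        (MulEquiv.subgroupCongr he)
      exact Group.isSolvable_of_isSolvable_injective (f := f.toMonoidHom) f.injective
    by_contra hns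
    haveI : Nontrivial G := by
      by_contra h
      rw [not_nontrivial_iff_subsingleton] at h
      exact hns inferInstance
    have hsimple : IsSimpleGroup G := by
      refine ⟨fun N hN => ?_⟩
      by_contra hc
      push Not at hc
      haveI := hN
      haveI := hsub N hc.2
      haveI : Group.IsSolvable (G ⧸ N) := by
        refine ih _ (hn ▸ Solvable.card_quotient_lt hc.1) (G ⧸ N) rfl fun a b => ?_
        obtain ⟨a, rfl⟩ := QuotientGroup.mk'_surjective N a
        obtain ⟨b, rfl⟩ := QuotientGroup.mk'_surjective N b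
        haveI := h2 a b
        rw [show ({QuotientGroup.mk' N a, QuotientGroup.mk' N b} : Set (G ⧸ N)) =
          QuotientGroup.mk' N '' {a, b} by rw [Set.image_pair], ← MonoidHom.map_closure]
        exact Group.isSolvable_of_surjective
          ((QuotientGroup.mk' N).subgroupMap_surjective (closure ({a, b} : Set G)))
      exact hns (Group.isSolvable_of_ker_le_range N.subtype (QuotientGroup.mk' N)
        (by rw [QuotientGroup.ker_mk', range_subtype]))
    obtain ⟨p, hpP, hp5, hdvd⟩ : ∃ p : ℕ, p.Prime ∧ 5 ≤ p ∧ p ∣ Nat.card G := by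
      by_contra hc
      push Not at hc
      obtain ⟨a, b, hab⟩ : ∃ a b, Nat.card G = 2 ^ a * 3 ^ b := by
        refine ⟨(Nat.card G).factorization 2, (Nat.card G).factorization 3, ?_⟩
        refine Nat.eq_of_factorization_eq Nat.card_pos.ne' (by positivity) fun r => ?_
        rw [Nat.factorization_mul (by positivity) (by positivity), Nat.factorization_pow,
          Nat.factorization_pow, Nat.Prime.factorization Nat.prime_two,
          Nat.Prime.factorization Nat.prime_three]
        simp only [Finsupp.add_apply, Finsupp.smul_single, Finsupp.single_apply, smul_eq_mul, mul_one]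
        by_cases hr : r.Prime ∧ r ∣ Nat.card G
        · have h5 := Nat.lt_of_not_le fun h => hc r hr.1 h hr.2
          have := hr.1.two_le
          interval_cases r
          · simp
          · simp
          · exact absurd hr.1 (by norm_num)
        · have h0 : (Nat.card G).factorization r = 0 := by
            rw [not_and] at hr
            by_cases hrp : r.Prime
            · exact Nat.factorization_eq_zero_of_not_dvd (hr hrp)
            · exact Nat.factorization_eq_zero_of_not_prime _ hrp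
          rw [h0]
          split_ifs with e1 e2 e2 <;> first | omega | (subst e1; simp [h0]) | (subst e2; simp [h0]) | simp
      haveI : Fact (Nat.Prime 2) := ⟨Nat.prime_two⟩
      haveI : Fact (Nat.Prime 3) := ⟨Nat.prime_three⟩
      exact hns (CfsgLib.Char.isSolvable_of_card_eq 2 3 a b Nat.prime_two Nat.prime_three hab)
    haveI := Fact.mk hpP
    haveI := Fintype.ofFinite G
    exact Ctx.false (p := p) ⟨hsimple, hns, hsub, h2, hp5, hdvd⟩

end CfsgLib.TwoSolv
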