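import Cfsg.Agent.TwoSolv.Product
import Cfsg.Agent.Char.Orthogonality
import Cfsg.Agent.Blocks.CharExtra
import Mathlib.LinearAlgebra.Trace

/-!
The set `S`: its size, the sum over it of a function of the `p`-part, and the lower bound for the
number of pairs in it with product in it.
-/

set_option autoImplicit false
set_option linter.unusedSectionVars false
set_option linter.style.haveILetI false

namespace CfsgLib.TwoSolv

open Subgroup CfsgLib.Functor Finset
open scoped CfsgLib.Functor Pointwise Classical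

universe u

variable {G : Type u} [Group G] [Finite G] {p : ℕ} [hp : Fact p.Prime]

theorem InS.conj (c : Ctx p G) {g : G} (h : InS p g) (d : G) : InS p (d * g * d⁻¹) := by
  refine ⟨fun h1 => h.1 ?_, ?_⟩
  · rw [pp_conj] at h1
    exact conj_eq_one_iff.1 h1
  · rw [pp_conj, pq_conj, c.theta_conj]
    exact conj_mem_cj h.2

theorem InS.inv (c : Ctx p G) {g : G} (h : InS p g) : InS p g⁻¹ := by
  refine ⟨fun h1 => h.1 ?_, ?_⟩
  · rwa [pp_inv, inv_eq_one] at h1
  · rw [pp_inv, pq_inv, c.theta_inv]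
    exact inv_mem h.2

/-- The exponent turning `a o` into `aⁱ o`. -/
noncomputable def twistExp (G : Type u) [Group G] [Finite G] (p : ℕ) [Fact p.Prime] (i : ℕ) : ℕ :=
  i * expP G p + expQ G p

theorem pow_twistExp (g : G) (i : ℕ) : g ^ twistExp G p i = pp p g ^ i * pq p g := by
  rw [twistExp, pow_add, mul_comm i, pow_mul]
  rfl

theorem pp_twist (g : G) (i : ℕ) :
    pp p (g ^ twistExp G p i) = pp p g ^ i ∧ pq p (g ^ twistExp G p i) = pq p g := by
  rw [pow_twistExp]
  have hc := (commute_pp_pq (p := p) g).pow_left i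
  exact ⟨pp_mul hc ((isPEl_pp g).pow i) (not_dvd_orderOf_pq g),
    pq_mul hc ((isPEl_pp g).pow i) (not_dvd_orderOf_pq g)⟩

variable (c : Ctx p G)
include c

theorem Ctx.pow_pp_ne_one {g : G} (h : pp p g ≠ 1) {i : ℕ} (hi : ¬ p ∣ i) : pp p g ^ i ≠ 1 :=
  fun h1 => hi (c.orderOf_eq (isPEl_pp g) h ▸ orderOf_dvd_of_pow_eq_one h1)

theorem Ctx.twist_mem {g : G} (h : InS p g) {i : ℕ} (hi : ¬ p ∣ i) :
    InS p (g ^ twistExp G p i) := by
  obtain ⟨h1, h2⟩ := pp_twist (p := p) g i
  rw [InS, h1, h2]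
  exact ⟨c.pow_pp_ne_one h.1 hi, c.theta_pow (isPEl_pp g) hi ▸ h.2⟩

variable [Fintype G]

/-- `S` as a finite set. -/
noncomputable def Sfin (G : Type u) [Group G] [Fintype G] (p : ℕ) [Fact p.Prime] : Finset G :=
  univ.filter fun g => InS p g

omit c in
theorem mem_Sfin {g : G} : g ∈ Sfin G p ↔ InS p g := by simp [Sfin]

theorem Ctx.sum_twist {i : ℕ} (hi : ¬ p ∣ i) {α : Type*} [AddCommMonoid α] (F : G → α) :
    ∑ g ∈ Sfin G p, F (g ^ twistExp G p i) = ∑ g ∈ Sfin G p, F g := by
  have hmaps : Set.MapsTo (fun g : G => g ^ twistExp G p i) (Sfin G p : Set G) (Sfin G p) :=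
    fun g hg => mem_Sfin.2 (c.twist_mem (mem_Sfin.1 hg) hi)
  have hinj : Set.InjOn (fun g : G => g ^ twistExp G p i) (Sfin G p : Set G) := by
    intro g hg g' hg' he
    obtain ⟨h1, h2⟩ := pp_twist (p := p) g i
    obtain ⟨h1', h2'⟩ := pp_twist (p := p) g' i
    simp only at he
    have e1 : pp p g ^ i = pp p g' ^ i := by rw [← h1, he, h1']
    have e2 : pq p g = pq p g' := by rw [← h2, he, h2']
    obtain ⟨j, -, hj⟩ := Nat.exists_mul_mod_eq_one_of_coprime
      (hp.out.coprime_iff_not_dvd.2 hi).symm hp.out.one_lt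
    have hpow : ∀ x : G, IsPEl p x → (x ^ i) ^ j = x := fun x hx => by
      rw [← pow_mul, ← pow_mod_orderOf]
      rcases eq_or_ne x 1 with rfl | hx1
      · simp
      · rw [c.orderOf_eq hx hx1, hj, pow_one]
    rw [← pp_mul_pq (p := p) g, ← pp_mul_pq (p := p) g', e2, ← hpow _ (isPEl_pp g), e1,
      hpow _ (isPEl_pp g')]
  rw [← Finset.sum_image hinj]
  exact Finset.sum_congr (Finset.eq_of_subset_of_card_le
    (Finset.image_subset_iff.2 hmaps) (Finset.card_image_of_injOn hinj).ge) fun _ _ => rfl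

omit c in
/-- Sums over `S` split along the `p`-part. -/
theorem sum_Sfin {α : Type*} [AddCommMonoid α] (F : G → G → α) :
    ∑ g ∈ Sfin G p, F (pp p g) (pq p g) =
      ∑ a ∈ univ.filter (fun a : G => IsPEl p a ∧ a ≠ 1),
        ∑ o ∈ univ.filter (fun o : G => o ∈ theta p a), F a o := by
  rw [Finset.sum_sigma' (univ.filter fun a : G => IsPEl p a ∧ a ≠ 1)
    (fun a => univ.filter fun o : G => o ∈ theta p a) F]
  have hback : ∀ x : Σ _ : G, G, IsPEl p x.1 → x.2 ∈ theta p x.1 →
      pp p (x.1 * x.2) = x.1 ∧ pq p (x.1 * x.2) = x.2 := fun x hx ho => by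
    have hc : Commute x.1 x.2 :=
      (mem_centralizer_singleton_iff.1 (Signalizer.mem_centralizerPPrimeCore_le ho)).symm
    have hq := not_dvd_orderOf_of_mem (Signalizer.coprime_card_centralizerPPrimeCore (p := p) x.1) ho
    exact ⟨pp_mul hc hx hq, pq_mul hc hx hq⟩
  refine Finset.sum_bij' (fun g _ => ⟨pp p g, pq p g⟩) (fun x _ => x.1 * x.2) ?_ ?_
    (fun g _ => pp_mul_pq g) ?_ fun g _ => rfl
  · intro g hg
    simp [mem_Sfin] at hg ⊢
    exact ⟨⟨isPEl_pp g, hg.1⟩, hg.2⟩
  · intro x hx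
    simp [mem_Sfin] at hx ⊢
    obtain ⟨h1, h2⟩ := hback x hx.1.1 hx.2
    rw [InS, h1, h2]
    exact ⟨hx.1.2, hx.2⟩
  · intro x hx
    simp at hx
    obtain ⟨h1, h2⟩ := hback x hx.1.1 hx.2
    show (⟨pp p (x.1 * x.2), pq p (x.1 * x.2)⟩ : Σ _ : G, G) = x
    rw [h1, h2]

/-- The core of the centraliser of a Sylow subgroup. -/
theorem Ctx.centralizer_sylow_card (Q : Sylow p G) :
    Nat.card (centralizer ((Q : Subgroup G) : Set G)) =
      Nat.card (Q : Subgroup G) *
        Nat.card (SFT.oc' p (centralizer ((Q : Subgroup G) : Set G))) := by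
  set C := centralizer ((Q : Subgroup G) : Set G)
  obtain ⟨a, ha, ha1⟩ := (Q : Subgroup G).bot_or_exists_ne_one.resolve_left (c.sylow_ne_bot Q)
  have hCa : C ≤ centralizer ({a} : Set G) := fun g hg =>
    mem_centralizer_singleton_iff.2 (mem_centralizer_iff.1 hg a ha).symm
  have hCs : Group.IsSolvable C := SFT.isSolvable_of_le hCa (c.solvable_centralizer ha1)
  have hQC : (Q : Subgroup G) ≤ C := fun x hx => mem_centralizer_iff.2 fun y hy =>
    c.sylow_commute Q hy hx
  have hQ : IsSylowIn p (Q : Subgroup G) C := (isSylowIn_top Q).of_le hQC le_top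
  have hn : (Q : Subgroup G) ≤ normalizer (SFT.oc' p C : Set G) :=
    hQC.trans (SFT.le_normalizer_oc' p C)
  have hsup : (Q : Subgroup G) ⊔ SFT.oc' p C = C := by
    refine le_antisymm (sup_le hQC (SFT.oc'_le p C)) fun g hg => ?_
    rw [← pp_mul_pq (p := p) g]
    refine mul_mem (c.pEl_mem hCs hQ (pp_mem hg) (isPEl_pp g)) (mem_sup_right ?_)
    refine le_oc'_of_normalized hCs hQ (c.sylow_comm Q).1 (zpowers_le.2 (pq_mem hg))
      (by rw [Nat.card_zpowers]; exact (hp.out.coprime_iff_not_dvd.2 (not_dvd_orderOf_pq g)).symm)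
      (fun x hx => SFT.mem_normalizer_of_conj fun y hy => ?_) (mem_zpowers _)
    have hyC : y ∈ C := zpowers_le.2 (pq_mem hg) hy
    rw [mem_centralizer_iff.1 hyC x hx, mul_inv_cancel_right]
    exact hy
  conv_lhs => rw [← hsup]
  refine Solvable.card_sup_of_disjoint hn (inf_eq_bot_of_coprime
    (SFT.coprime_of_pgroup Q.2 (SFT.coprime_card_oc' p C)))

variable (P : Sylow p G)

/-- The common order of the cores of centralisers of Sylow subgroups. -/
noncomputable def sylD (P : Sylow p G) : ℕ :=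
  Nat.card (SFT.oc' p (centralizer ((P : Subgroup G) : Set G)))

theorem Ctx.sylD_eq (Q : Sylow p G) : sylD Q = sylD P := by
  obtain ⟨g, hg⟩ := MulAction.exists_smul_eq G P Q
  have hQ : (Q : Subgroup G) = g ⋆ (P : Subgroup G) := by
    rw [← hg, Sylow.coe_subgroup_smul]; rfl
  have h := c.centralizer_sylow_card Q
  rw [hQ, ← cj_centralizer, card_cj, card_cj, c.centralizer_sylow_card P] at h
  have h' := Nat.eq_of_mul_eq_mul_left Nat.card_pos h
  rw [sylD, sylD, hQ, ← cj_centralizer]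
  exact h'.symm

theorem Ctx.theta_stabilizer {a : G} (ha1 : a ≠ 1) (Q : Sylow p G)
    (haQ : a ∈ (Q : Subgroup G)) :
    theta p a ⊓ normalizer ((Q : Subgroup G) : Set G) =
      SFT.oc' p (centralizer ((Q : Subgroup G) : Set G)) := by
  set C := centralizer ((Q : Subgroup G) : Set G)
  have hCa : C ≤ centralizer ({a} : Set G) := fun g hg =>
    mem_centralizer_singleton_iff.2 (mem_centralizer_iff.1 hg a haQ).symm
  have hQθ : (Q : Subgroup G) ≤ normalizer (theta p a : Set G) :=
    (c.theta_isSylowIn Q haQ).le.trans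
      (Signalizer.centralizer_le_normalizer_centralizerPPrimeCore a)
  refine le_antisymm ?_ ?_
  · have hco : (Nat.card (theta p a ⊓ normalizer ((Q : Subgroup G) : Set G) : Subgroup G)).Coprime p :=
      (c.coprime_theta a).coprime_dvd_left (card_dvd_of_le inf_le_left)
    have hle : theta p a ⊓ normalizer ((Q : Subgroup G) : Set G) ≤ C :=
      SFT.commute_of_coprime inf_le_right (SFT.le_normalizer_inf hQθ (le_normalizer.trans le_normalizer))
        (SFT.coprime_of_pgroup Q.2 hco).symm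
    refine SFT.le_oc' hle hco (SFT.le_normalizer_inf
      (hCa.trans (Signalizer.centralizer_le_normalizer_centralizerPPrimeCore a)) ?_)
    exact (centralizer_le_normalizer _).trans le_normalizer
  · refine le_inf (c.le_theta Q ha1 haQ ((SFT.oc'_le p C).trans hCa) (SFT.coprime_card_oc' p C)
      ?_) ((SFT.oc'_le p C).trans (centralizer_le_normalizer _))
    exact SFT.le_centralizer_symm (SFT.oc'_le p C) |>.trans (centralizer_le_normalizer _)

/-- `θ(a)` permutes the Sylow subgroups containing `a` transitively. -/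
theorem Ctx.card_theta {a : G} (ha : IsPEl p a) (ha1 : a ≠ 1) :
    Nat.card (theta p a) =
      (univ.filter fun Q : Sylow p G => a ∈ (Q : Subgroup G)).card * sylD P := by
  obtain ⟨Q, hQ⟩ := ha.isPGroup_zpowers.exists_le_sylow
  have haQ : a ∈ (Q : Subgroup G) := hQ (mem_zpowers a)
  have hstab : Nat.card (MulAction.stabilizer (theta p a) Q) = sylD P := by
    rw [← c.sylD_eq P Q, sylD, ← c.theta_stabilizer ha1 Q haQ]
    refine Nat.card_congr
      { toFun := fun o => ⟨(o : theta p a), o.1.2, ?_⟩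
        invFun := fun o => ⟨⟨o.1, o.2.1⟩, ?_⟩
        left_inv := fun o => rfl
        right_inv := fun o => rfl }
    · exact Sylow.smul_eq_iff_mem_normalizer.1 o.2
    · exact Sylow.smul_eq_iff_mem_normalizer.2 o.2.2
  have horb : MulAction.orbit (theta p a) Q = {Q' : Sylow p G | a ∈ (Q' : Subgroup G)} := by
    ext Q'
    constructor
    · rintro ⟨o, rfl⟩
      show a ∈ ((((o : theta p a) : G) • Q : Sylow p G) : Subgroup G)
      rw [Sylow.coe_subgroup_smul]
      exact ⟨a, haQ, show ((o : theta p a) : G) * a * ((o : theta p a) : G)⁻¹ = a by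
        rw [mem_centralizer_singleton_iff.1 (c.theta_le a o.2), mul_inv_cancel_right]⟩
    · intro hQ'
      obtain ⟨n, hn, hnQ⟩ := (c.theta_isSylowIn Q' hQ').exists_cj_eq (c.theta_isSylowIn Q haQ)
      obtain ⟨o, ho, hon⟩ := c.centralizer_decomp Q ha1 haQ hn
      refine ⟨⟨o, ho⟩, Sylow.ext ?_⟩
      show (((o • Q : Sylow p G)) : Subgroup G) = Q'
      rw [Sylow.coe_subgroup_smul, ← hnQ]
      conv_rhs => rw [show n = o * (o⁻¹ * n) by group, ← cj_cj, mem_normalizer_iff_cj.1 hon]
      rfl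
  have h1 := MulAction.index_stabilizer (theta p a) Q
  have h2 := (MulAction.stabilizer (theta p a) Q).index_mul_card
  rw [h1, hstab] at h2
  rw [← h2, horb, Set.ncard_eq_toFinset_card']
  congr 1
  simp

omit c in
theorem sum_sylow_conj (Q : Sylow p G) (f : G → ℝ) (hf : ∀ g d : G, f (d * g * d⁻¹) = f g) :
    ∑ a ∈ univ.filter (fun a : G => a ∈ (Q : Subgroup G) ∧ a ≠ 1), f a =
      ∑ a ∈ univ.filter (fun a : G => a ∈ (P : Subgroup G) ∧ a ≠ 1), f a := by
  obtain ⟨g, hg⟩ := MulAction.exists_smul_eq G P Q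
  have hQ : (Q : Subgroup G) = g ⋆ (P : Subgroup G) := by
    rw [← hg, Sylow.coe_subgroup_smul]; rfl
  symm
  refine Finset.sum_equiv (MulAut.conj g).toEquiv (fun a => ?_) fun a _ => (hf a g).symm
  simp only [mem_filter, mem_univ, true_and, MulEquiv.toEquiv_eq_coe, EquivLike.coe_coe,
    MulAut.conj_apply, ne_eq, conj_eq_one_iff, hQ, mem_cj]
  simp [mul_assoc]

/-- The sum over `S` of a class function of the `p`-part. -/
theorem Ctx.sum_Sfin_pp (f : G → ℝ) (hf : ∀ g d : G, f (d * g * d⁻¹) = f g) :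
    ∑ g ∈ Sfin G p, f (pp p g) = (sylD P : ℝ) * (Nat.card (Sylow p G)) *
      ∑ a ∈ univ.filter (fun a : G => a ∈ (P : Subgroup G) ∧ a ≠ 1), f a := by
  have h1 := sum_Sfin (p := p) (G := G) (fun a _ => f a)
  simp only [Finset.sum_const, nsmul_eq_mul] at h1
  rw [h1]
  have h2 : ∀ a ∈ univ.filter (fun a : G => IsPEl p a ∧ a ≠ 1),
      ((univ.filter fun o : G => o ∈ theta p a).card : ℝ) * f a =
        (sylD P : ℝ) * ∑ Q : Sylow p G, if a ∈ (Q : Subgroup G) then f a else 0 := by
    intro a ha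
    simp only [mem_filter, mem_univ, true_and] at ha
    rw [← Finset.sum_filter, Finset.sum_const, nsmul_eq_mul]
    have : (univ.filter fun o : G => o ∈ theta p a).card = Nat.card (theta p a) := by
      rw [Nat.card_eq_fintype_card, Fintype.card_subtype]
    rw [this, c.card_theta P ha.1 ha.2]
    push_cast
    ring
  rw [Finset.sum_congr rfl h2, ← Finset.mul_sum, mul_assoc]
  congr 1
  rw [Finset.sum_comm]
  have h3 : ∀ Q : Sylow p G,
      (∑ a ∈ univ.filter (fun a : G => IsPEl p a ∧ a ≠ 1), if a ∈ (Q : Subgroup G) then f a else 0) =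
        ∑ a ∈ univ.filter (fun a : G => a ∈ (P : Subgroup G) ∧ a ≠ 1), f a := fun Q => by
    rw [← Finset.sum_filter, Finset.filter_filter, ← sum_sylow_conj P Q f hf]
    refine Finset.sum_congr (Finset.filter_congr fun a _ => ?_) fun _ _ => rfl
    exact ⟨fun h => ⟨h.2, h.1.2⟩, fun h => ⟨⟨isPEl_of_mem Q.2 h.1, h.2⟩, h.1⟩⟩
  rw [Finset.sum_congr rfl fun Q _ => h3 Q, Finset.sum_const, nsmul_eq_mul, Finset.card_univ,
    Nat.card_eq_fintype_card]

/-- At least a fraction `(p-2)/(p-1)` of the pairs from `S` multiply into `S`. -/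
theorem Ctx.pairs_le (hcard : Nat.card (P : Subgroup G) ≤ p ^ 2) :
    (p - 2) * (Sfin G p).card ^ 2 ≤
      (p - 1) * (((Sfin G p) ×ˢ (Sfin G p)).filter fun x => InS p (x.1 * x.2)).card := by
  set S := Sfin G p
  set I := (Finset.range p).erase 0
  have hI : ∀ i ∈ I, ¬ p ∣ i := fun i hi hd => by
    simp only [I, Finset.mem_erase, Finset.mem_range] at hi
    exact absurd (Nat.le_of_dvd (Nat.pos_of_ne_zero hi.1) hd) (by omega)
  have hIc : I.card = p - 1 := by
    rw [Finset.card_erase_of_mem (Finset.mem_range.2 hp.out.pos), Finset.card_range]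
  have h1 : ∀ i ∈ I, (((S ×ˢ S)).filter fun x => InS p (x.1 * x.2)).card =
      ∑ z ∈ S, ∑ w ∈ S, if InS p (z * w ^ twistExp G p i) then 1 else 0 := fun i hi => by
    rw [Finset.card_filter, Finset.sum_product]
    exact Finset.sum_congr rfl fun z _ =>
      (c.sum_twist (hI i hi) fun w => if InS p (z * w) then 1 else 0).symm
  have h2 : ∀ z ∈ S, ∀ w ∈ S, p - 2 ≤ ∑ i ∈ I, if InS p (z * w ^ twistExp G p i) then 1 else 0 := by
    intro z hz w hw
    rw [← Finset.card_filter]
    have hsplit := Finset.card_filter_add_card_filter_not (s := I)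
      (fun i => InS p (z * w ^ twistExp G p i))
    suffices (I.filter fun i => ¬ InS p (z * w ^ twistExp G p i)).card ≤ 1 by omega
    rw [Finset.card_le_one]
    intro i hi j hj
    rw [Finset.mem_filter] at hi hj
    have hz' := mem_Sfin.1 hz
    have hw' := mem_Sfin.1 hw
    set L := closure ({z, w} : Set G)
    have hzL : z ∈ L := subset_closure (Set.mem_insert _ _)
    have hwL : w ∈ L := subset_closure (Set.mem_insert_of_mem _ rfl)
    obtain ⟨R, hR⟩ := exists_sylowIn (p := p) L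
    have hcore : ∀ i, i ∈ I → ¬ InS p (z * w ^ twistExp G p i) →
        z * w ^ twistExp G p i ∈ SFT.oc' p L := fun i hi hn => by
      have hmem : z * w ^ twistExp G p i ∈ L := mul_mem hzL (pow_mem hwL _)
      refine c.mem_core_of_regular hR (c.gen_le hz' hw' hR hmem) (pp_eq_one_iff.1 ?_)
      by_contra hne
      exact hn (c.product P hcard hz' (c.twist_mem hw' (hI i hi)) hne)
    have h3 := mul_mem (inv_mem (hcore i hi.1 hi.2)) (hcore j hj.1 hj.2)
    rw [mul_inv_rev, mul_assoc, inv_mul_cancel_left, pow_twistExp, pow_twistExp] at h3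
    have ho : pq p w ∈ SFT.oc' p L := c.pq_mem_core (c.two z w) hw' hwL
    have h4 : (pp p w ^ i)⁻¹ * pp p w ^ j ∈ SFT.oc' p L := by
      have := mul_mem (mul_mem ho h3) (inv_mem ho)
      simpa [mul_assoc] using this
    have h5 : (pp p w ^ i)⁻¹ * pp p w ^ j = 1 := (isPEl_of_mem (isPEl_pp w).isPGroup_zpowers
      (mul_mem (inv_mem (pow_mem (mem_zpowers _) i)) (pow_mem (mem_zpowers _) j))).eq_one_of_mem
      (SFT.coprime_card_oc' p L) h4
    have h6 := pow_eq_pow_iff_modEq.1 (inv_mul_eq_one.1 h5)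
    rw [c.orderOf_eq (isPEl_pp w) hw'.1] at h6
    simp only [I, Finset.mem_erase, Finset.mem_range] at hi hj
    exact Nat.ModEq.eq_of_lt_of_lt h6 hi.1.2 hj.1.2
  calc (p - 2) * S.card ^ 2 = ∑ _z ∈ S, ∑ _w ∈ S, (p - 2) := by
        simp only [Finset.sum_const, smul_eq_mul]; ring
    _ ≤ ∑ z ∈ S, ∑ w ∈ S, ∑ i ∈ I, if InS p (z * w ^ twistExp G p i) then 1 else 0 :=
        Finset.sum_le_sum fun z hz => Finset.sum_le_sum fun w hw => h2 z hz w hw
    _ = ∑ i ∈ I, (((S ×ˢ S)).filter fun x => InS p (x.1 * x.2)).card := by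
        rw [Finset.sum_congr rfl h1]
        exact (Finset.sum_congr rfl fun z _ => Finset.sum_comm).trans Finset.sum_comm
    _ = (p - 1) * _ := by rw [Finset.sum_const, smul_eq_mul, hIc]

end CfsgLib.TwoSolv
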