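import Cfsg.Agent.TwoSolv.Sigma
import Cfsg.Agent.SFTCor.Equivariant
import Cfsg.Agent.ZJ.ControlMain
import Cfsg.Agent.Transfer.Basic

/-!
The structure of a minimal simple group in which any two elements generate a solvable subgroup:
Sylow `p`-subgroups for `p ≥ 5` are elementary abelian with irreducible normaliser, and the cores of
the centralisers of their elements.
-/

set_option autoImplicit false
set_option linter.unusedSectionVars false
set_option linter.style.haveILetI false

namespace CfsgLib.TwoSolv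

open Subgroup CfsgLib.Functor
open scoped CfsgLib.Functor

universe u

/-- A minimal counterexample and a large prime dividing its order. -/
structure Ctx (p : ℕ) (G : Type u) [Group G] : Prop where
  simple : IsSimpleGroup G
  nonsolvable : ¬ Group.IsSolvable G
  sub : ∀ H : Subgroup G, H ≠ ⊤ → Group.IsSolvable H
  two : ∀ a b : G, Group.IsSolvable (closure ({a, b} : Set G))
  hp5 : 5 ≤ p
  hdvd : p ∣ Nat.card G

/-- The core of the centraliser of an element. -/
abbrev theta (p : ℕ) {G : Type u} [Group G] (a : G) : Subgroup G := Cfsg.centralizerPPrimeCore p a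

variable {G : Type u} [Group G] [Finite G] {p : ℕ} [hp : Fact p.Prime] (c : Ctx p G)
include c

theorem Ctx.center_eq_bot : center G = ⊥ := by
  haveI := c.simple
  rcases IsSimpleGroup.eq_bot_or_eq_top_of_normal (center G) inferInstance with h | h
  · exact h
  · exact absurd (Group.isSolvable_of_comm fun a b : G =>
      (mem_center_iff.1 (h ▸ mem_top a : a ∈ center G) b).symm) c.nonsolvable

theorem Ctx.centralizer_ne_top {a : G} (ha : a ≠ 1) : centralizer ({a} : Set G) ≠ ⊤ := fun h =>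
  ha (mem_bot.1 (c.center_eq_bot ▸ mem_center_iff.2 fun g =>
    mem_centralizer_singleton_iff.1 (h ▸ mem_top g : g ∈ centralizer ({a} : Set G))))

theorem Ctx.solvable_centralizer {a : G} (ha : a ≠ 1) :
    Group.IsSolvable (centralizer ({a} : Set G)) :=
  c.sub _ (c.centralizer_ne_top ha)

theorem Ctx.p_ne_two : p ≠ 2 := by have := c.hp5; omega

theorem Ctx.qd_free : ¬ Cfsg.Involves ↥(Cfsg.qd p) G := by
  intro h
  obtain ⟨K, f, hf⟩ := CfsgLib.ZJ.exists_surjective_of_involves (CfsgLib.ZJ.involves_sl2_of_qd h)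
  have hns : ¬ Group.IsSolvable (Matrix.SpecialLinearGroup (Fin 2) (ZMod p)) := fun hs =>
    CfsgLib.Linear.PSLTwo.not_solvable (F := ZMod p) (by rw [Nat.card_zmod]; have := c.hp5; omega)
      (haveI := hs; Group.isSolvable_of_surjective (QuotientGroup.mk'_surjective _))
  rcases eq_or_ne K ⊤ with rfl | hK
  swap
  · haveI := c.sub K hK
    exact hns (Group.isSolvable_of_surjective hf)
  set φ : G →* Matrix.SpecialLinearGroup (Fin 2) (ZMod p) := f.comp (topEquiv (G := G)).symm.toMonoidHom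
  have hφ : Function.Surjective φ := hf.comp (MulEquiv.surjective _)
  haveI := c.simple
  rcases IsSimpleGroup.eq_bot_or_eq_top_of_normal φ.ker inferInstance with hk | hk
  · obtain ⟨z, hz⟩ := hφ (-1)
    have hinj : Function.Injective φ := (MonoidHom.ker_eq_bot_iff φ).1 hk
    haveI : Fact (2 < p) := ⟨by have := c.hp5; omega⟩
    have hz1 : z ≠ 1 := fun e => by
      rw [e, map_one] at hz
      have := congrFun (congrFun (congrArg Subtype.val hz.symm) 0) 0
      simp [ZMod.neg_one_ne_one] at this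
    refine c.centralizer_ne_top hz1 (eq_top_iff.2 fun g _ => mem_centralizer_singleton_iff.2 (hinj ?_))
    rw [map_mul, map_mul, hz]
    exact Subtype.ext (by simp)
  · apply hns
    haveI : Subsingleton (Matrix.SpecialLinearGroup (Fin 2) (ZMod p)) := ⟨fun a b => by
      obtain ⟨x, rfl⟩ := hφ a
      obtain ⟨y, rfl⟩ := hφ b
      rw [MonoidHom.mem_ker.1 (hk ▸ mem_top x : x ∈ φ.ker),
        MonoidHom.mem_ker.1 (hk ▸ mem_top y : y ∈ φ.ker)]⟩
    infer_instance

variable (P : Sylow p G)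

theorem Ctx.sylow_ne_bot : (P : Subgroup G) ≠ ⊥ := P.ne_bot_of_dvd_card c.hdvd

theorem Ctx.sylow_comm : IsMulCommutative (P : Subgroup G) ∧
    Cfsg.centerThompsonAOf (P : Subgroup G) = (P : Subgroup G) := by
  haveI := c.simple
  have K := ZJ.zkind_centerThompsonA.{u} (p := p) c.p_ne_two
  set Z := Cfsg.centerThompsonAOf (P : Subgroup G)
  have hZP : Z ≤ (P : Subgroup G) := K.le G _
  have hZc : IsMulCommutative Z := ⟨⟨fun a b => Subtype.ext (K.comm G _ a a.2 b b.2)⟩⟩
  have hcl : Cfsg.IsStronglyClosed Z (P : Subgroup G) := by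
    refine ⟨hZP, fun x hx g hg => ?_⟩
    obtain ⟨n, hn, hne⟩ := ZJ.control_of_free c.p_ne_two K G c.qd_free P _
      (ZJ.stronglyClosed_self P) (zpowers x) g (zpowers_le.2 (hZP hx)) (by
        rw [MonoidHom.map_zpowers, zpowers_le]; simpa using hg)
    rw [← hne x (mem_zpowers x)]
    exact SFT.conj_mem le_rfl hn hx
  have h := eq_of_stronglyClosed c.hp5 c.two P hZc hcl (K.ne_bot G _ P.2 (c.sylow_ne_bot P))
  exact ⟨h ▸ hZc, h⟩

theorem Ctx.sylow_commute {a b : G} (ha : a ∈ (P : Subgroup G)) (hb : b ∈ (P : Subgroup G)) :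
    a * b = b * a :=
  congrArg Subtype.val ((c.sylow_comm P).1.is_comm.comm ⟨a, ha⟩ ⟨b, hb⟩)

theorem Ctx.burnside {a g : G} (ha : a ∈ (P : Subgroup G)) (hg : g * a * g⁻¹ ∈ (P : Subgroup G)) :
    ∃ n ∈ normalizer ((P : Subgroup G) : Set G), n * a * n⁻¹ = g * a * g⁻¹ := by
  have K := ZJ.zkind_centerThompsonA.{u} (p := p) c.p_ne_two
  obtain ⟨n, hn, hne⟩ := ZJ.control_of_free c.p_ne_two K G c.qd_free P _
    (ZJ.stronglyClosed_self P) (zpowers a) g (zpowers_le.2 ha) (by
      rw [MonoidHom.map_zpowers, zpowers_le]; simpa using hg)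
  exact ⟨n, (c.sylow_comm P).2 ▸ hn, hne a (mem_zpowers a)⟩

/-- The only nontrivial subgroup of `P` invariant under the normaliser is `P`. -/
theorem Ctx.irreducible {A : Subgroup G} (hA : A ≤ (P : Subgroup G)) (hA1 : A ≠ ⊥)
    (hn : normalizer ((P : Subgroup G) : Set G) ≤ normalizer (A : Set G)) :
    A = (P : Subgroup G) := by
  haveI := c.simple
  refine eq_of_stronglyClosed c.hp5 c.two P
    ⟨⟨fun a b => Subtype.ext (c.sylow_commute P (hA a.2) (hA b.2))⟩⟩ ⟨hA, fun x hx g hg => ?_⟩ hA1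
  obtain ⟨n, hn', hne⟩ := c.burnside P (hA hx) hg
  exact hne ▸ SFT.conj_mem hn hn' hx

theorem Ctx.pow_eq_one {a : G} (ha : a ∈ (P : Subgroup G)) : a ^ p = 1 := by
  set A : Subgroup G :=
    { carrier := {a | a ∈ (P : Subgroup G) ∧ a ^ p = 1}
      one_mem' := ⟨one_mem _, one_pow _⟩
      mul_mem' := fun {a b} ha hb => ⟨mul_mem ha.1 hb.1, by
        rw [(show Commute a b from c.sylow_commute P ha.1 hb.1).mul_pow, ha.2, hb.2, one_mul]⟩
      inv_mem' := fun {a} ha => ⟨inv_mem ha.1, by rw [inv_pow, ha.2, inv_one]⟩ }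
  have hA1 : A ≠ ⊥ := by
    intro h
    have hd : p ∣ Nat.card (P : Subgroup G) := by
      obtain ⟨k, hk⟩ := IsPGroup.iff_card.1 P.2
      rcases k with _ | k
      · exact absurd (eq_bot_of_card_eq _ (hk.trans (pow_zero p))) (c.sylow_ne_bot P)
      · exact hk ▸ dvd_pow_self p k.succ_ne_zero
    obtain ⟨x, hx⟩ := exists_prime_orderOf_dvd_card' p hd
    have hx' : (x : G) ∈ A := ⟨x.2, orderOf_dvd_iff_pow_eq_one.1 (by rw [orderOf_coe, hx])⟩
    rw [h, mem_bot, OneMemClass.coe_eq_one] at hx'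
    rw [hx', orderOf_one] at hx
    exact hp.out.ne_one hx.symm
  have h := c.irreducible P (show A ≤ (P : Subgroup G) from fun a (ha : a ∈ (P : Subgroup G) ∧ a ^ p = 1) => ha.1) hA1 (SFT.le_normalizer_of_conj fun n hn x hx =>
    ⟨SFT.conj_mem le_rfl hn hx.1, by rw [conj_pow, hx.2, mul_one, mul_inv_cancel]⟩)
  exact (h.ge ha).2

theorem Ctx.elementary : Cfsg.IsElementaryAbelian p (P : Subgroup G) :=
  ⟨(c.sylow_comm P).1, fun _ ha => c.pow_eq_one P ha⟩

theorem Ctx.normalizer_sylow_ne_top : normalizer ((P : Subgroup G) : Set G) ≠ ⊤ := fun h => by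
  haveI := c.simple
  rcases IsSimpleGroup.eq_bot_or_eq_top_of_normal (P : Subgroup G)
    (normalizer_eq_top_iff.1 h) with h1 | h1
  · exact c.sylow_ne_bot P h1
  · exact c.nonsolvable (Group.isSolvable_of_comm fun a b =>
      c.sylow_commute P (h1 ▸ mem_top a) (h1 ▸ mem_top b))

theorem Ctx.not_centralize :
    ¬ normalizer ((P : Subgroup G) : Set G) ≤ centralizer ((P : Subgroup G) : Set G) := by
  intro h
  haveI := c.simple
  obtain ⟨Q, N, hN, hc⟩ := TransferBasic.hasNormalPComplement_of_le_centralizer P h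
  rcases IsSimpleGroup.eq_bot_or_eq_top_of_normal N hN with rfl | rfl
  · have hQ : (Q : Subgroup G) = ⊤ := isComplement'_bot_left.1 hc
    exact c.nonsolvable (Group.isSolvable_of_comm fun a b =>
      c.sylow_commute Q (hQ ▸ mem_top a) (hQ ▸ mem_top b))
  · exact c.sylow_ne_bot Q (isComplement'_top_left.1 hc)

omit c in
/-- A Sylow subgroup of a subgroup lies in a Sylow subgroup. -/
theorem exists_sylow_ge {H R : Subgroup G} (hR : IsSylowIn p R H) :
    ∃ Q : Sylow p G, R ≤ (Q : Subgroup G) :=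
  hR.2.1.exists_le_sylow

theorem Ctx.sylowIn_comm {H R : Subgroup G} (hR : IsSylowIn p R H) : IsMulCommutative R := by
  obtain ⟨Q, hQ⟩ := exists_sylow_ge hR
  exact ⟨⟨fun a b => Subtype.ext (c.sylow_commute Q (hQ a.2) (hQ b.2))⟩⟩

theorem Ctx.pow_eq_one_of_isPEl {x : G} (hx : IsPEl p x) : x ^ p = 1 := by
  obtain ⟨Q, hQ⟩ := hx.isPGroup_zpowers.exists_le_sylow
  exact c.pow_eq_one Q (hQ (mem_zpowers x))

theorem Ctx.orderOf_eq {x : G} (hx : IsPEl p x) (hx1 : x ≠ 1) : orderOf x = p :=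
  orderOf_eq_prime (c.pow_eq_one_of_isPEl hx) hx1

/-- In a solvable subgroup all `p`-elements lie in a Sylow subgroup times the core. -/
theorem Ctx.pEl_mem {H R : Subgroup G} (hH : Group.IsSolvable H) (hR : IsSylowIn p R H) {x : G}
    (hxH : x ∈ H) (hx : IsPEl p x) : x ∈ R ⊔ SFT.oc' p H := by
  haveI := hH
  obtain ⟨S, hS⟩ := hR.exists_sylow
  haveI : IsMulCommutative (S : Subgroup H) := by
    have := c.sylowIn_comm hR
    rw [← hS] at this
    exact ⟨⟨fun a b => Subtype.ext (Subtype.ext (by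
      simpa using congrArg Subtype.val (this.is_comm.comm ⟨_, _, a.2, rfl⟩ ⟨_, _, b.2, rfl⟩)))⟩⟩
  have hn := Fitting.sup_pPrimeCore_normal S inferInstance
  obtain ⟨n, -, hnx⟩ := (isSylowIn_top S).exists_cj_le
    (show IsPEl p (⟨x, hxH⟩ : H) by
      obtain ⟨k, hk⟩ := hx; exact ⟨k, Subtype.ext hk⟩).isPGroup_zpowers le_top
  have h1 : (⟨x, hxH⟩ : H) ∈ (S : Subgroup H) ⊔ Cfsg.pPrimeCore p H := by
    have h2 := hn.conj_mem _ (mem_sup_left (cj_le_iff.1 hnx _ (mem_zpowers _)) :
      _ ∈ (S : Subgroup H) ⊔ Cfsg.pPrimeCore p H) n⁻¹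
    simpa [mul_assoc] using h2
  have h3 := mem_map_of_mem H.subtype h1
  rw [Subgroup.map_sup, hS] at h3
  exact h3

theorem Ctx.theta_le (a : G) : theta p a ≤ centralizer ({a} : Set G) :=
  Signalizer.mem_centralizerPPrimeCore_le

theorem Ctx.coprime_theta (a : G) : (Nat.card (theta p a)).Coprime p :=
  Signalizer.coprime_card_centralizerPPrimeCore a

theorem Ctx.theta_conj (g a : G) : theta p (g * a * g⁻¹) = g ⋆ theta p a :=
  SFTCor.centralizerPPrimeCore_conj a g

theorem Ctx.theta_eq_of_centralizer_eq {a b : G}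
    (h : centralizer ({a} : Set G) = centralizer ({b} : Set G)) : theta p a = theta p b := by
  show (Cfsg.pPrimeCore p ↥(centralizer ({a} : Set G))).map _ =
    (Cfsg.pPrimeCore p ↥(centralizer ({b} : Set G))).map _
  rw [h]

theorem Ctx.theta_pow {a : G} (ha : IsPEl p a) {i : ℕ} (hi : ¬ p ∣ i) :
    theta p (a ^ i) = theta p a := by
  refine c.theta_eq_of_centralizer_eq (le_antisymm (fun x hx => ?_) fun x hx =>
    mem_centralizer_singleton_iff.2 (Commute.pow_right (mem_centralizer_singleton_iff.1 hx :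
      Commute x a) i))
  obtain ⟨k, hk⟩ := ha.exists_orderOf
  obtain ⟨j, hj⟩ := exists_pow_eq_self_of_coprime (x := a) (n := i)
    (hk ▸ Nat.Coprime.pow_right k (hp.out.coprime_iff_not_dvd.2 hi).symm)
  have h := Commute.pow_right (mem_centralizer_singleton_iff.1 hx : Commute x (a ^ i)) j
  rw [hj] at h
  exact mem_centralizer_singleton_iff.2 h

theorem Ctx.theta_inv (a : G) : theta p a⁻¹ = theta p a :=
  c.theta_eq_of_centralizer_eq (by
    ext x
    simp only [mem_centralizer_singleton_iff]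
    exact Commute.inv_right_iff (a := x) (b := a))

theorem Ctx.theta_isSylowIn {a : G} (ha : a ∈ (P : Subgroup G)) :
    IsSylowIn p (P : Subgroup G) (centralizer ({a} : Set G)) :=
  (isSylowIn_top P).of_le
    (fun x hx => mem_centralizer_singleton_iff.2 (c.sylow_commute P hx ha)) le_top

/-- A `p'`-subgroup of `C(a)` normalised by a full Sylow subgroup of it lies in `θ(a)`. -/
theorem Ctx.le_theta {a : G} (ha1 : a ≠ 1) (haP : a ∈ (P : Subgroup G)) {D : Subgroup G}
    (hDC : D ≤ centralizer ({a} : Set G)) (hD : (Nat.card D).Coprime p)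
    (hPD : (P : Subgroup G) ≤ normalizer (D : Set G)) : D ≤ theta p a :=
  le_oc'_of_normalized (c.solvable_centralizer ha1) (c.theta_isSylowIn P haP) (c.sylow_comm P).1
    hDC hD hPD

/-- `θ(a)` meets a solvable subgroup containing `a` in its core. -/
theorem Ctx.theta_inf_le {a : G} (ha : IsPEl p a) {H : Subgroup G} (hH : Group.IsSolvable H)
    (haH : a ∈ H) : theta p a ⊓ H ≤ SFT.oc' p H := by
  obtain ⟨R, hR, haR⟩ := exists_sylowIn_ge ha.isPGroup_zpowers (zpowers_le.2 haH)
  have hRc := c.sylowIn_comm hR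
  refine le_oc'_of_normalized hH hR hRc inf_le_right
    ((c.coprime_theta a).coprime_dvd_left (card_dvd_of_le inf_le_left)) ?_
  refine SFT.le_normalizer_inf (fun r hr => ?_) (hR.le.trans le_normalizer)
  refine Signalizer.centralizer_le_normalizer_centralizerPPrimeCore a
    (mem_centralizer_singleton_iff.2 ?_)
  exact congrArg Subtype.val (hRc.is_comm.comm ⟨r, hr⟩ ⟨a, haR (mem_zpowers a)⟩)

/-- `C(a) = θ(a) (C(a) ∩ N(P))`. -/
theorem Ctx.centralizer_decomp {a : G} (ha1 : a ≠ 1) (haP : a ∈ (P : Subgroup G)) {g : G}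
    (hg : g ∈ centralizer ({a} : Set G)) :
    ∃ o ∈ theta p a, o⁻¹ * g ∈ normalizer ((P : Subgroup G) : Set G) := by
  set C := centralizer ({a} : Set G)
  have hPC := c.theta_isSylowIn P haP
  have hθn : C ≤ normalizer (theta p a : Set G) :=
    Signalizer.centralizer_le_normalizer_centralizerPPrimeCore a
  have hPθ : (P : Subgroup G) ≤ normalizer (theta p a : Set G) := hPC.le.trans hθn
  set M := (P : Subgroup G) ⊔ theta p a
  have hgP : g ⋆ (P : Subgroup G) ≤ M := cj_le_iff.2 fun x hx =>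
    c.pEl_mem (c.solvable_centralizer ha1) hPC
      (mul_mem (mul_mem hg (hPC.le hx)) (inv_mem hg)) ((isPEl_of_mem P.2 hx).conj g)
  obtain ⟨m, hm, hmP⟩ := (IsSylowIn.of_le (isSylowIn_top P) (le_sup_left : _ ≤ M) le_top
    ).exists_cj_le (isPGroup_cj g P.2) hgP
  obtain ⟨r, hr, o, ho, rfl⟩ := (Solvable.mem_sup_of_le_normalizer hPθ).1 hm
  refine ⟨o⁻¹, inv_mem ho, ?_⟩
  rw [inv_inv]
  have h1 : (r * o * g) ⋆ (P : Subgroup G) = (P : Subgroup G) := by
    rw [← cj_cj]
    exact eq_of_le_of_card_le' hmP (by rw [card_cj, card_cj])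
  have h2 : r * o * g ∈ normalizer ((P : Subgroup G) : Set G) := mem_normalizer_iff_cj.2 h1
  have := mul_mem (inv_mem (le_normalizer hr)) h2
  simpa [mul_assoc] using this

end CfsgLib.TwoSolv
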