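import Cfsg.Agent.TwoSolv.Parts
import Cfsg.Agent.Kinf.SolvableSCN
import Cfsg.Agent.OddLocal.OddStability
import Cfsg.Prelude.Def_TwoFusion

/-!
An abelian strongly closed subgroup of a Sylow `p`-subgroup, `p ≥ 5`, of a simple group in which any
two elements generate a solvable subgroup is the whole Sylow subgroup: the set of elements whose
`p`-part is conjugate into the subgroup is invariant under left translation by its conjugates.
-/

set_option autoImplicit false
set_option linter.unusedSectionVars false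
set_option linter.style.haveILetI false

namespace CfsgLib.TwoSolv

open Subgroup CfsgLib.Functor

universe u

variable {G : Type u} [Group G] [Finite G] {p : ℕ} [hp : Fact p.Prime]

/-- In a solvable group, `p ≥ 5`, an abelian subgroup normal in a Sylow `p`-subgroup lies in
`O_{p',p}`. -/
theorem abelian_le_pPrimePCore {X : Type u} [Group X] [Finite X] [Group.IsSolvable X] (hp5 : 5 ≤ p)
    (S : Sylow p X) {A : Subgroup X} (hAc : IsMulCommutative A)
    (hAn : (S : Subgroup X) ≤ normalizer (A : Set X)) : A ≤ Cfsg.pPrimePCore p X := by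
  haveI := hAc
  set π := QuotientGroup.mk' (Cfsg.pPrimeCore p X)
  have hπ : Function.Surjective π := QuotientGroup.mk'_surjective _
  haveI : Group.IsSolvable (X ⧸ Cfsg.pPrimeCore p X) := Group.isSolvable_of_surjective hπ
  refine (map_le_iff_le_comap (f := π)).1 ?_
  intro a ha
  haveI : (Cfsg.pCore p (X ⧸ Cfsg.pPrimeCore p X)).Normal := CfsgLib.Solvable.pCore_normal p
  obtain ⟨D, hD, haD, hDp⟩ := CfsgLib.ZJ.pcoreMod_of_quadratic (by omega)
    (CfsgLib.SolvableSCN.not_involves_qd hp5) _ (CfsgLib.Solvable.isPGroup_pCore p) a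
    (OddLocal.Stability.quadratic_of_abelian_normalized (Subgroup.map_isMulCommutative A π)
      (OddLocal.Stability.sylow_map_normalizes S hAn π hπ) ha)
  exact OddLocal.Stability.le_pCore_of_pcoreMod
    ((CfsgLib.Solvable.isPGroup_pCore p).to_le OddLocal.Stability.selfCentralizing_quotient) hDp haD

/-- Conjugate into a subgroup. -/
def InConj (A : Subgroup G) (g : G) : Prop := ∃ c : G, c * g * c⁻¹ ∈ A

theorem InConj.conj {A : Subgroup G} {g : G} (h : InConj A g) (d : G) : InConj A (d * g * d⁻¹) := by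
  obtain ⟨c, hc⟩ := h
  exact ⟨c * d⁻¹, by simpa [mul_assoc] using hc⟩

theorem InConj.of_conj {A : Subgroup G} {g d : G} (h : InConj A (d * g * d⁻¹)) : InConj A g := by
  simpa [mul_assoc] using h.conj d⁻¹

theorem mem_of_inConj {S A : Subgroup G} (hcl : Cfsg.IsStronglyClosed A S) {y : G} (hy : y ∈ S)
    (h : InConj A y) : y ∈ A := by
  obtain ⟨c, hc⟩ := h
  have := hcl.2 _ hc c⁻¹ (by simpa [mul_assoc] using hy)
  simpa [mul_assoc] using this

theorem coe_pp {L : Subgroup G} (x : L) : ((pp p x : L) : G) = pp p (x : G) := by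
  have h := pp_mul_pq (p := p) x
  conv_rhs => rw [← h, Subgroup.coe_mul]
  refine (pp_mul ?_ ?_ ?_).symm
  · exact congrArg Subtype.val (commute_pp_pq (p := p) x).eq
  · exact (isPEl_pp x).map L.subtype
  · rw [orderOf_coe]
    exact not_dvd_orderOf_pq x

/-- The invariance at the heart of the argument. -/
theorem inConj_pp_mul_iff (hp5 : 5 ≤ p) {P : Sylow p G} {A : Subgroup G}
    (hAc : IsMulCommutative A) (hcl : Cfsg.IsStronglyClosed A (P : Subgroup G)) {u z : G}
    (hu : InConj A u) {L : Subgroup G} (hL : Group.IsSolvable L) (huL : u ∈ L) (hzL : z ∈ L) :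
    InConj A (pp p (u * z)) ↔ InConj A (pp p z) := by
  haveI := hL
  obtain ⟨S⟩ := (inferInstance : Nonempty (Sylow p L))
  obtain ⟨Q, hQ⟩ := (S.2.map L.subtype).exists_le_sylow
  obtain ⟨c, hc⟩ := MulAction.exists_smul_eq G Q P
  have hcS : ∀ s ∈ (S : Subgroup L), c * (s : G) * c⁻¹ ∈ (P : Subgroup G) := fun s hs => by
    rw [← hc, Sylow.coe_subgroup_smul]
    exact ⟨s, hQ ⟨s, hs, rfl⟩, rfl⟩
  set A' : Subgroup L := (S : Subgroup L) ⊓
    A.comap ((MulAut.conj c).toMonoidHom.comp L.subtype) with hA'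
  have hA'iff : ∀ x : L, x ∈ A' ↔ x ∈ (S : Subgroup L) ∧ InConj A (x : G) := fun x =>
    ⟨fun h => ⟨h.1, c, h.2⟩, fun h => ⟨h.1, mem_of_inConj hcl (hcS x h.1) (h.2.conj c)⟩⟩
  have hA'c : IsMulCommutative A' := ⟨⟨fun a b => Subtype.ext (Subtype.ext (by
    have h := congrArg Subtype.val (hAc.is_comm.comm ⟨_, a.2.2⟩ ⟨_, b.2.2⟩)
    simp only [MonoidHom.comp_apply, coe_subtype, MulEquiv.coe_toMonoidHom, MulAut.conj_apply,
      Subgroup.coe_mul] at h
    have h' := congrArg (fun t => c⁻¹ * t * c) h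
    simpa [mul_assoc] using h'))⟩⟩
  have hA'n : (S : Subgroup L) ≤ normalizer (A' : Set L) :=
    SFT.le_normalizer_of_conj fun s hs x hx => by
      rw [hA'iff] at hx ⊢
      exact ⟨mul_mem (mul_mem hs hx.1) (inv_mem hs), hx.2.conj _⟩
  have hA'F := abelian_le_pPrimePCore hp5 S hA'c hA'n
  set O := Cfsg.pPrimeCore p L
  set π := QuotientGroup.mk' O with hπdef
  have hπ : Function.Surjective π := QuotientGroup.mk'_surjective O
  have hO : (Nat.card O).Coprime p := CfsgLib.Solvable.coprime_card_pPrimeCore p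
  haveI hOn : O.Normal := CfsgLib.Solvable.pPrimeCore_normal p
  set Ab := A'.map π with hAb
  have hAbF : Ab ≤ Cfsg.pCore p (L ⧸ O) := map_le_iff_le_comap.2 hA'F
  -- congruent `p`-elements
  have hcongr : ∀ x y : L, IsPEl p x → IsPEl p y → π x = π y → InConj A (x : G) →
      InConj A (y : G) := by
    intro x y hx hy hxy hin
    obtain ⟨k, -, hk⟩ := exists_conj_of_congr hO hx hy (le_normalizer_of_normal (mem_top x))
      (QuotientGroup.eq.1 hxy)
    rw [← hk]
    exact hin.conj (k : G)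
  haveI hAbn : Ab.Normal := by
    refine ⟨?_⟩
    rintro _ ⟨a, ha, rfl⟩ g
    obtain ⟨g, rfl⟩ := hπ g
    haveI : (Cfsg.pCore p (L ⧸ O)).Normal := CfsgLib.Solvable.pCore_normal p
    have hmem : π g * π a * (π g)⁻¹ ∈ (S.mapSurjective hπ : Subgroup (L ⧸ O)) :=
      Fitting.pCore_le_sylow _ ((inferInstance : (Cfsg.pCore p (L ⧸ O)).Normal).conj_mem _
        (hAbF ⟨a, ha, rfl⟩) _)
    obtain ⟨s, hs, hsa⟩ := hmem
    refine ⟨s, (hA'iff s).2 ⟨hs, hcongr (g * a * g⁻¹) s ((isPEl_of_mem S.2 ha.1).conj g)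
      (isPEl_of_mem S.2 hs) (by rw [map_mul, map_mul, map_inv, hsa]) ?_⟩, hsa⟩
    exact ((hA'iff a).1 ha).2.conj (g : G)
  have hiff : ∀ r : L, IsPEl p r → (InConj A (r : G) ↔ π r ∈ Ab) := by
    intro r hr
    refine ⟨fun h => ?_, fun ⟨a, ha, har⟩ =>
      hcongr a r (isPEl_of_mem S.2 ha.1) hr har ((hA'iff a).1 ha).2⟩
    obtain ⟨n, -, hn⟩ := (isSylowIn_top S).exists_cj_le hr.isPGroup_zpowers le_top
    have hnr : n * r * n⁻¹ ∈ (S : Subgroup L) := cj_le_iff.1 hn r (mem_zpowers r)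
    have := hAbn.conj_mem _ ⟨_, (hA'iff _).2 ⟨hnr, h.conj (n : G)⟩, rfl⟩ (π n)⁻¹
    simpa [map_mul, mul_assoc] using this
  set τ := (QuotientGroup.mk' Ab).comp π
  have key : ∀ x : L, InConj A (pp p (x : G)) ↔ ¬ p ∣ orderOf (τ x) := fun x => by
    rw [← coe_pp, hiff _ (isPEl_pp x), ← map_pp_eq_one_iff τ]
    exact (QuotientGroup.eq_one_iff _).symm
  have hτu : τ ⟨u, huL⟩ = 1 := by
    refine (QuotientGroup.eq_one_iff _).2 ((hiff _ ?_).1 hu)
    obtain ⟨d, hd⟩ := hu
    obtain ⟨k, hk⟩ := (isPEl_of_mem (P.2.to_le hcl.1) hd).conj d⁻¹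
    refine ⟨k, Subtype.ext ?_⟩
    simpa [mul_assoc] using hk
  have h1 := key (⟨u, huL⟩ * ⟨z, hzL⟩)
  rw [map_mul, hτu, one_mul] at h1
  exact h1.trans (key ⟨z, hzL⟩).symm

/-- An abelian strongly closed subgroup is trivial or the whole Sylow subgroup. -/
theorem eq_of_stronglyClosed [IsSimpleGroup G] (hp5 : 5 ≤ p)
    (h2 : ∀ a b : G, Group.IsSolvable (closure ({a, b} : Set G))) (P : Sylow p G) {A : Subgroup G}
    (hAc : IsMulCommutative A) (hcl : Cfsg.IsStronglyClosed A (P : Subgroup G)) (hA1 : A ≠ ⊥) :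
    A = (P : Subgroup G) := by
  refine le_antisymm hcl.1 fun y hy => mem_of_inConj hcl hy ?_
  set H : Subgroup G :=
    { carrier := {g | ∀ z, InConj A (pp p (g * z)) ↔ InConj A (pp p z)}
      one_mem' := fun z => by rw [one_mul]
      mul_mem' := fun {a b} ha hb z => by rw [mul_assoc, ha, hb]
      inv_mem' := fun {a} ha z => by
        have := ha (a⁻¹ * z)
        rw [mul_inv_cancel_left] at this
        exact this.symm }
  have hAH : ∀ u, InConj A u → u ∈ H := fun u hu z =>
    inConj_pp_mul_iff hp5 hAc hcl hu (h2 u z) (subset_closure (Set.mem_insert _ _))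
      (subset_closure (Set.mem_insert_of_mem _ rfl))
  have htop : H = ⊤ := by
    refine top_unique ((?_ : (⊤ : Subgroup G) ≤ normalClosure (A : Set G)).trans ?_)
    · rcases IsSimpleGroup.eq_bot_or_eq_top_of_normal (normalClosure (A : Set G)) normalClosure_normal with h | h
      · exact absurd (le_bot_iff.1 (le_normalClosure.trans h.le)) hA1
      · exact h.ge
    · rw [normalClosure, closure_le]
      intro u hu
      obtain ⟨a, ha, hau⟩ := Group.mem_conjugatesOfSet_iff.1 hu
      obtain ⟨d, rfl⟩ := isConj_iff.1 hau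
      exact hAH _ (InConj.conj ⟨1, by simpa using ha⟩ d)
  have h1 : InConj A (pp p (1 : G)) := ⟨1, by
    rw [pp_eq_self IsPEl.one]; simp⟩
  have := ((htop ▸ mem_top y : y ∈ H) 1).2 h1
  rwa [mul_one, pp_eq_self (isPEl_of_mem P.2 hy)] at this

end CfsgLib.TwoSolv
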